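import Cfsg.Agent.Lib.G2Fusion23.Fld
import Cfsg.Agent.Lib.G2Gauss.Levi
import Cfsg.Agent.Lib.ChevStructure.Order.CertG2

/-!
# A Sylow 2-subgroup of G₂(q), q odd (helper23)
-/

set_option autoImplicit false
set_option linter.style.haveILetI false
set_option maxRecDepth 100000

namespace Cfsg.Agent.Lib.G2Fusion23

open Cfsg.Lie Cfsg.Agent.Lib.G2Gauss
open Cfsg.Agent.Lib.ChevStructure hiding phi
open scoped MatrixGroups Matrix

variable {F : Type*} [Field F]

theorem co_vals : co chevG2 (rt 6) i0 = 0 ∧ co chevG2 (rt 6) i1 = 1 ∧ co chevG2 (rt 9) i0 = 2 ∧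
    co chevG2 (rt 9) i1 = 3 := by decide +kernel

theorem chi_vals : A chevG2 i0 (rt 6) = -3 ∧ A chevG2 i0 (rt (6 : Fin 12).rev) = 3 ∧
    A chevG2 i0 (rt 9) = 1 ∧ A chevG2 i0 (rt (9 : Fin 12).rev) = -1 ∧ A chevG2 i1 (rt 7) = -1 := by
  decide +kernel

theorem phi_slH_six (u : Fˣ) : phi 6 (slH u) = T 1 u := by
  rw [phi_H, co_vals.1, co_vals.2.1, zpow_zero, zpow_one]

theorem phi_slH_nine (u : Fˣ) : phi 9 (slH u) = T (u ^ (2 : ℤ)) (u ^ (3 : ℤ)) := by
  rw [phi_H, co_vals.2.2.1, co_vals.2.2.2]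

theorem slH_neg_one : slH (-1 : Fˣ) = (-1 : SL(2, F)) := by
  refine Subtype.ext ?_
  simp [slH_val, Matrix.one_fin_two, Matrix.SpecialLinearGroup.coe_neg]

theorem phi_center : (phi 6 (-1 : SL(2, F)) : GL chevG2.Idx F) = phi 9 (-1) ∧
    (phi 6 (-1 : SL(2, F)) : GL chevG2.Idx F) = T 1 (-1) := by
  rw [← slH_neg_one, phi_slH_six, phi_slH_nine]
  refine ⟨?_, rfl⟩
  congr 1
  · exact Units.ext (by simp)
  · exact Units.ext (by simp [zpow_ofNat, pow_succ])

theorem T_center_ne (h2 : (2 : F) ≠ 0) : T (1 : Fˣ) (-1) ≠ 1 := by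
  intro e
  have h := T_X 7 (1 : Fˣ) (-1) (1 : F)
  rw [e, one_mul, mul_one] at h
  have h7 : ((chi 7 (1 : Fˣ) (-1) : Fˣ) : F) = -1 := by
    simp [chi, chi_vals.2.2.2.2]
  rw [h7, neg_one_mul] at h
  have h' : X 7 ((1 : F) + 1) = 1 := by
    rw [← X_add]; nth_rewrite 1 [h]; rw [X_add, neg_add_cancel, X_zero]
  exact h2 ((one_add_one_eq_two (R := F)) ▸ C.X_eq_one h')

theorem phi_commute (a b : SL(2, F)) : Commute (phi 6 a : GL chevG2.Idx F) (phi 9 b) := by
  have key : ∀ r s : Fin 12, (r = 6 ∨ r = (6 : Fin 12).rev) → (s = 9 ∨ s = (9 : Fin 12).rev) →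
      s ≠ r ∧ s ≠ r.rev ∧ chevG2.commTerms r.val s.val = [] := by decide +kernel
  have h1 : ∀ (t : F) (b : SL(2, F)), ∀ r : Fin 12, (r = 6 ∨ r = (6 : Fin 12).rev) →
      Commute (X r t) (phi 9 b) := fun t b r hr => by
    refine Subgroup.mem_centralizer_singleton_iff.1 (sl_induction
      (M := (Subgroup.centralizer ({X r t} : Set (GL chevG2.Idx F))).comap (phi 9)) (fun u => ?_) (fun u => ?_) b) |>.symm
    · rw [Subgroup.mem_comap, phi_U, Subgroup.mem_centralizer_singleton_iff]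
      exact (comm_X r 9 (key r 9 hr (Or.inl rfl)) t u).symm
    · rw [Subgroup.mem_comap, phi_L, Subgroup.mem_centralizer_singleton_iff]
      exact (comm_X r _ (key r _ hr (Or.inr rfl)) t u).symm
  exact Subgroup.mem_centralizer_singleton_iff.1 (sl_induction
    (M := (Subgroup.centralizer ({phi 9 b} : Set (GL chevG2.Idx F))).comap (phi 6))
    (fun t => by rw [Subgroup.mem_comap, phi_U, Subgroup.mem_centralizer_singleton_iff]; exact h1 t b 6 (Or.inl rfl))
    (fun t => by rw [Subgroup.mem_comap, phi_L, Subgroup.mem_centralizer_singleton_iff]; exact h1 t b _ (Or.inr rfl)) a)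

/-- A torus element conjugates a rank one subgroup diagonally. -/
theorem T_phi_conj (n : Fin 12) (x : Fˣ) (k : ℤ) (hk : A chevG2 i0 (rt n) = k)
    (hk' : A chevG2 i0 (rt n.rev) = -k) (g g' : SL(2, F))
    (h : (g : Matrix (Fin 2) (Fin 2) F) * dg ((x ^ k : Fˣ) : F) = dg ((x ^ k : Fˣ) : F) * g') :
    phi n g * T x 1 = T x 1 * phi n g' := by
  let l : F := ((x ^ k : Fˣ) : F)
  have hl : l ≠ 0 := Units.ne_zero _
  let cj : SL(2, F) →* SL(2, F) := MonoidHom.mk' (fun g => ⟨dg l * g.1 * dg l⁻¹, by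
      rw [Matrix.det_mul, Matrix.det_mul, dg_det, dg_det, g.2, mul_one, mul_inv_cancel₀ hl]⟩)
    (fun a b => Subtype.ext (by
      show dg l * (a.1 * b.1) * dg l⁻¹ = dg l * a.1 * dg l⁻¹ * (dg l * b.1 * dg l⁻¹)
      have e : dg l⁻¹ * dg l = 1 := by rw [dg_mul, inv_mul_cancel₀ hl, dg_one]
      simp only [mul_assoc]
      rw [← mul_assoc (dg l⁻¹) (dg l), e, one_mul]))
  have hg : g = cj g' := by
    refine Subtype.ext ?_
    show g.1 = dg l * g'.1 * dg l⁻¹
    rw [← h, mul_assoc, dg_mul, mul_inv_cancel₀ hl, dg_one, mul_one]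
  have hc := sl_hom_ext (f := (MulAut.conj (T x 1)).toMonoidHom.comp (phi n)) (g := (phi n).comp cj)
    (fun t => ?_) (fun t => ?_) g'
  · have hc' : T x 1 * phi n g' * (T x 1)⁻¹ = phi n (cj g') := hc
    rw [hg, ← hc', inv_mul_cancel_right]
  · show T x 1 * phi n (slU t) * (T x 1)⁻¹ = phi n (cj (slU t))
    have e : cj (slU t) = slU (l * t) := by
      refine Subtype.ext ?_
      show dg l * (slU t).1 * dg l⁻¹ = (slU (l * t)).1
      simp [dg, slU_val, hl]
    rw [e, phi_U, phi_U, T_X, mul_inv_cancel_right]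
    simp [chi, hk, l]
  · show T x 1 * phi n (slL t) * (T x 1)⁻¹ = phi n (cj (slL t))
    have e : cj (slL t) = slL (l⁻¹ * t) := by
      refine Subtype.ext ?_
      show dg l * (slL t).1 * dg l⁻¹ = (slL (l⁻¹ * t)).1
      simp [dg, slL_val, hl, mul_comm]
    rw [e, phi_L, phi_L, T_X, mul_inv_cancel_right]
    simp [chi, hk', l]

variable [Fintype F]

theorem exists_sq_mul (hF : Odd (Fintype.card F)) {d l : F} (hd : ¬ IsSquare d) (hl : ¬ IsSquare l) :
    ∃ c, c * c * l = d := by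
  have hd0 : d ≠ 0 := by rintro rfl; exact hd ⟨0, by simp⟩
  have hl0 : l ≠ 0 := by rintro rfl; exact hl ⟨0, by simp⟩
  have h2 := ringChar_ne_two hF
  rw [FiniteField.isSquare_iff h2 hd0] at hd
  rw [FiniteField.isSquare_iff h2 hl0] at hl
  have hdl : IsSquare (d * l⁻¹) := by
    rw [FiniteField.isSquare_iff h2 (mul_ne_zero hd0 (inv_ne_zero hl0)), mul_pow, inv_pow,
      (FiniteField.pow_dichotomy h2 hd0).resolve_left hd, (FiniteField.pow_dichotomy h2 hl0).resolve_left hl]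
    simp
  obtain ⟨c, hc⟩ := hdl
  exact ⟨c, by rw [← hc]; field_simp⟩

/-- G₂(q) has a Sylow 2-subgroup isomorphic to the model. -/
theorem exists_sylow (hF : Odd (Fintype.card F)) :
    ∃ (k : ℕ) (φ : El (ZMod (2 ^ (k + 2))) →* ↥(chevG2.group F)) (P : Sylow 2 ↥(chevG2.group F)),
      Function.Injective φ ∧ φ.range = (P : Subgroup ↥(chevG2.group F)) := by
  classical
  haveI : Fact (Nat.Prime 2) := ⟨Nat.prime_two⟩
  have h2c := ringChar_ne_two hF
  have h2 : (2 : F) ≠ 0 := Ring.two_ne_zero h2c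
  obtain ⟨k, o, m, d, ho, hq, hdet, hd0, hdns, hmJ, hN⟩ := exists_matrix hF
  obtain ⟨e₀, he₀⟩ := FiniteField.exists_nonsquare h2c
  have he00 : e₀ ≠ 0 := by rintro rfl; exact he₀ ⟨0, by simp⟩
  let x : Fˣ := Units.mk0 e₀ he00
  have hn₁ : ¬ IsSquare ((x ^ (-3 : ℤ) : Fˣ) : F) := fun ⟨c, hc⟩ => he₀ ⟨c * (e₀ * e₀), by
    have hxe : (x : F) = e₀ := rfl
    rw [Units.val_zpow_eq_zpow_val, hxe, zpow_neg] at hc
    rw [show c * (e₀ * e₀) * (c * (e₀ * e₀)) = c * c * (e₀ * e₀ * (e₀ * e₀)) by ring, ← hc]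
    simp [zpow_ofNat]; field_simp⟩
  have hn₂ : ¬ IsSquare ((x ^ (1 : ℤ) : Fˣ) : F) := by rw [zpow_one]; exact he₀
  obtain ⟨c₁, hc₁⟩ := exists_sq_mul hF hdns hn₁
  obtain ⟨c₂, hc₂⟩ := exists_sq_mul hF hdns hn₂
  let ψ₁ : SL(2, F) →* ↥(chevG2.group F) := (phi 6).codRestrict _ (phi_mem 6)
  let ψ₂ : SL(2, F) →* ↥(chevG2.group F) := (phi 9).codRestrict _ (phi_mem 9)
  let hh : ↥(chevG2.group F) := ⟨T x 1, T_mem x 1⟩
  have hsq : ∀ a b : SL(2, F), (a : Matrix (Fin 2) (Fin 2) F) = ((x ^ (-3 : ℤ) : Fˣ) : F)⁻¹ • dg (((x ^ (-3 : ℤ) : Fˣ) : F) * (x ^ (-3 : ℤ) : Fˣ)) →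
      (b : Matrix (Fin 2) (Fin 2) F) = ((x ^ (1 : ℤ) : Fˣ) : F)⁻¹ • dg (((x ^ (1 : ℤ) : Fˣ) : F) * (x ^ (1 : ℤ) : Fˣ)) →
      hh * hh = ψ₁ a * ψ₂ b := by
    intro a b ha hb
    refine Subtype.ext ?_
    show T x 1 * T x 1 = phi 6 a * phi 9 b
    have e : ∀ (l : Fˣ) (c : SL(2, F)), (c : Matrix (Fin 2) (Fin 2) F) = (l : F)⁻¹ • dg ((l : F) * l) →
        c = slH l := fun l c hc => by
      refine Subtype.ext ?_
      rw [hc, slH_val]
      simp [dg]
    rw [e _ a ha, e _ b hb, phi_slH_six, phi_slH_nine, T_mul, T_mul, one_mul, one_mul]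
    congr 1
    · rw [zpow_one, zpow_two]
    · rw [zpow_one, ← zpow_add]; norm_num
  obtain ⟨φ, hφ⟩ := exists_model ψ₁ ψ₂ (fun a b => Subtype.ext (phi_commute a b).eq)
    (Subtype.ext phi_center.1) (fun e => T_center_ne h2 (phi_center.2.symm.trans (congrArg Subtype.val e)))
    (hh := hh) (Units.ne_zero _) (Units.ne_zero _)
    (fun g g' h => Subtype.ext (T_phi_conj 6 x (-3) chi_vals.1 (by rw [chi_vals.2.1]; norm_num) g g' h))
    (fun g g' h => Subtype.ext (T_phi_conj 9 x 1 chi_vals.2.2.1 chi_vals.2.2.2.1 g g' h))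
    hsq hdet hd0 hc₁ hc₂ hmJ hN
  refine ⟨k, φ, ?_⟩
  · have hcard : Nat.card φ.range = 2 ^ (2 * k + 6) := by
      rw [← Nat.card_congr (MonoidHom.ofInjective hφ).toEquiv, El.card]
      ring
    have hG := Order.CertG2.card_group (K := F) (q := Fintype.card F) rfl
    rw [Finset.prod_eq_one (fun i _ => ?_), one_mul] at hG
    · have hidx := Subgroup.card_mul_index φ.range
      rw [hcard, hG] at hidx
      have hodd : Odd (φ.range.index) := by
        have e6 : Fintype.card F ^ 6 - 1 = (Fintype.card F ^ 2 - 1) * (Fintype.card F ^ 4 + Fintype.card F ^ 2 + 1) := by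
          zify [Nat.one_le_pow 6 _ Fintype.card_pos, Nat.one_le_pow 2 _ Fintype.card_pos]
          ring
        simp only [List.map_cons, List.map_nil, List.prod_cons, List.prod_nil, mul_one] at hidx
        rw [e6, hq] at hidx
        have : 2 ^ (2 * k + 6) * φ.range.index = 2 ^ (2 * k + 6) *
            (Fintype.card F ^ (chevG2.nroots / 2) * (o * o) * (Fintype.card F ^ 4 + Fintype.card F ^ 2 + 1)) := by
          rw [hidx]; ring
        rw [Nat.eq_of_mul_eq_mul_left (by positivity) this]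
        exact (hF.pow.mul (ho.mul ho)).mul ((hF.pow.add_odd hF.pow).add_one)
      refine ⟨(IsPGroup.of_card hcard).toSylow (fun hd => Nat.not_even_iff_odd.2 hodd (even_iff_two_dvd.2 hd)), hφ, rfl⟩
    · have : ∀ j < 2, Order.DataTorus.dG2.getD j 0 = 1 := by decide
      rw [this i.val i.isLt, Nat.gcd_one_right]

end Cfsg.Agent.Lib.G2Fusion23
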