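import Cfsg.Agent.Lib.G2Fusion23.Pair
import Mathlib.FieldTheory.Finite.Basic
import Mathlib.FieldTheory.IsAlgClosed.AlgebraicClosure

/-!
# The matrix of two-power order (helper23)
-/

set_option autoImplicit false
set_option linter.style.haveILetI false

namespace Cfsg.Agent.Lib.G2Fusion23

open scoped MatrixGroups Matrix

universe u

variable {F : Type u} [Field F] [Fintype F]

theorem ringChar_ne_two (hF : Odd (Fintype.card F)) : ringChar F ≠ 2 := fun h => by
  have := FiniteField.even_card_iff_char_two.1 h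
  rw [Nat.odd_iff.1 hF] at this
  omega

theorem neg_one_ne (hF : Odd (Fintype.card F)) : (-1 : F) ≠ 1 :=
  Ring.neg_one_ne_one_of_char_ne_two (ringChar_ne_two hF)

omit [Fintype F] in
theorem dg_pow (x : F) (n : ℕ) : dg x ^ n = dg (x ^ n) := by
  induction n with
  | zero => rw [pow_zero, pow_zero, dg_one]
  | succ n ih => rw [pow_succ, ih, dg_mul, pow_succ]

theorem exists_matrix_split (hF : Odd (Fintype.card F)) {k o : ℕ} (ho : Odd o)
    (hq : Fintype.card F - 1 = 2 ^ (k + 2) * o) :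
    ∃ (m : Matrix (Fin 2) (Fin 2) F) (d : F), m.det = d ∧ d ≠ 0 ∧ ¬ IsSquare d ∧
      m * (J : SL(2, F)).1 * m = d • (J : SL(2, F)).1 ∧ (d⁻¹ • (m * m)) ^ (2 ^ (k + 1)) = -1 := by
  classical
  obtain ⟨g, hg⟩ := IsCyclic.exists_generator (α := Fˣ)
  have hord : orderOf g = 2 ^ (k + 2) * o := by
    rw [orderOf_eq_card_of_forall_mem_zpowers hg, Nat.card_eq_fintype_card, Fintype.card_units, hq]
  set x : F := ((g ^ o : Fˣ) : F) with hx
  have hopos : 0 < o := ho.pos
  have hy : ((g ^ (2 ^ (k + 1) * o) : Fˣ) : F) = -1 := by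
    have h2 : ((g ^ (2 ^ (k + 1) * o) : Fˣ) : F) * ((g ^ (2 ^ (k + 1) * o) : Fˣ) : F) = 1 := by
      rw [← Units.val_mul, ← pow_add, show 2 ^ (k + 1) * o + 2 ^ (k + 1) * o = orderOf g by rw [hord]; ring,
        pow_orderOf_eq_one, Units.val_one]
    refine (mul_self_eq_one_iff.1 h2).resolve_left fun e => ?_
    have h3 := Nat.le_of_dvd (by positivity) (orderOf_dvd_of_pow_eq_one (Units.val_eq_one.1 e))
    rw [hord] at h3
    have h4 : 2 ^ (k + 2) * o = 2 * (2 ^ (k + 1) * o) := by ring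
    have h5 : 0 < 2 ^ (k + 1) * o := by positivity
    omega
  have hxr : x ^ (2 ^ (k + 1)) = -1 := by rw [hx, ← Units.val_pow_eq_pow_val, ← pow_mul, mul_comm o, hy]
  have hx0 : x ≠ 0 := Units.ne_zero _
  have hxx : (x * x) ^ (2 ^ (k + 1)) = 1 := by rw [mul_pow, hxr]; ring
  refine ⟨dg x, x, dg_det x, hx0, fun hsq => ?_, ?_, ?_⟩
  · rw [FiniteField.isSquare_iff (ringChar_ne_two hF) hx0] at hsq
    have e : Fintype.card F / 2 = 2 ^ (k + 1) * o := by
      have h2 : 2 ^ (k + 2) * o = 2 * (2 ^ (k + 1) * o) := by ring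
      omega
    rw [e, pow_mul, hxr, ho.neg_one_pow] at hsq
    exact neg_one_ne hF hsq
  · show dg x * !![0, 1; -1, 0] * dg x = x • !![0, 1; -1, 0]
    simp [dg]
  · rw [dg_mul, smul_pow, dg_pow, hxx, dg_one, inv_pow, hxr]
    simp

/-- An element of `F_{q²}` with two-power order, seen through its trace. -/
theorem exists_trace (hF : Odd (Fintype.card F)) {k o : ℕ} (ho : Odd o)
    (hq : Fintype.card F + 1 = 2 ^ (k + 2) * o) :
    ∃ (L : Type u) (_ : Field L) (_ : Algebra F L) (w : L) (t : F),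
      (∀ u : F, algebraMap F L u ≠ w) ∧ w * w = algebraMap F L t * w + 1 ∧ w ^ (2 ^ (k + 2)) = -1 := by
  classical
  let L := AlgebraicClosure F
  obtain ⟨w, hw⟩ := IsAlgClosed.exists_pow_nat_eq (-1 : L) (n := 2 ^ (k + 2)) (by positivity)
  have hw1 : w ^ (Fintype.card F + 1) = -1 := by rw [hq, pow_mul, hw, ho.neg_one_pow]
  have hq1 : 1 < Fintype.card F := Fintype.one_lt_card
  have hFr : (w + w ^ Fintype.card F) ^ Fintype.card F = w + w ^ Fintype.card F := by
    have h1 := map_add (FiniteField.frobeniusAlgHom F L) w (w ^ Fintype.card F)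
    simp only [FiniteField.frobeniusAlgHom_apply] at h1
    have h2 : (w ^ Fintype.card F) ^ Fintype.card F = w := by
      obtain ⟨c, hc⟩ := hF
      have : Fintype.card F * Fintype.card F = (Fintype.card F + 1) * (2 * c) + 1 := by rw [hc]; ring
      rw [← pow_mul, this, pow_succ, pow_mul, hw1]
      simp
    rw [h1, h2, add_comm]
  have hbot : ∀ x : L, x ^ Fintype.card F = x → ∃ u : F, algebraMap F L u = x := by
    intro x hx
    let P : Polynomial L := Polynomial.X ^ Fintype.card F - Polynomial.X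
    have hP : P ≠ 0 := FiniteField.X_pow_card_sub_X_ne_zero L hq1
    have hsub : Finset.univ.image (algebraMap F L) ⊆ P.roots.toFinset := by
      intro y hy
      obtain ⟨u, -, rfl⟩ := Finset.mem_image.1 hy
      simp [Polynomial.mem_roots hP, P, ← map_pow, FiniteField.pow_card]
    have heq := Finset.eq_of_subset_of_card_le hsub (by
      rw [Finset.card_image_of_injective _ (algebraMap F L).injective, Finset.card_univ]
      refine (Multiset.toFinset_card_le _).trans ((Polynomial.card_roots' P).trans ?_)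
      rw [FiniteField.X_pow_card_sub_X_natDegree_eq L hq1])
    have hx' : x ∈ P.roots.toFinset := by simp [Polynomial.mem_roots hP, P, hx]
    rw [← heq, Finset.mem_image] at hx'
    exact ⟨hx'.choose, hx'.choose_spec.2⟩
  obtain ⟨t, ht⟩ := hbot _ hFr
  refine ⟨L, inferInstance, inferInstance, w, t, fun u hu => ?_, ?_, hw⟩
  · have h1 : w ^ (Fintype.card F - 1) = 1 := by
      rw [← hu, ← map_pow, FiniteField.pow_card_sub_one_eq_one u, map_one]
      rintro rfl
      rw [← hu, map_zero, zero_pow (by positivity)] at hw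
      exact one_ne_zero (neg_eq_zero.1 hw.symm)
    have h4 : 2 ^ (k + 2) * o = 4 * (2 ^ k * o) := by ring
    obtain ⟨c, hc⟩ : ∃ c, Fintype.card F - 1 = 2 * (2 * c + 1) := ⟨2 ^ k * o - 1, by
      have h5 : 0 < 2 ^ k * o := by have := ho.pos; positivity
      omega⟩
    rw [hc] at h1
    have h6 := congrArg (· ^ (2 ^ (k + 1))) h1
    simp only [one_pow, ← pow_mul] at h6
    rw [show 2 * (2 * c + 1) * 2 ^ (k + 1) = 2 ^ (k + 2) * (2 * c + 1) by ring, pow_mul, hw,
      Odd.neg_one_pow ⟨c, rfl⟩] at h6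
    refine neg_one_ne hF ((algebraMap F L).injective ?_)
    rw [map_neg, map_one, h6]
  · rw [ht, add_mul, ← pow_succ]
    rw [hw1]; ring

theorem exists_matrix_nonsplit (hF : Odd (Fintype.card F)) {k o : ℕ} (ho : Odd o)
    (hq : Fintype.card F + 1 = 2 ^ (k + 2) * o) :
    ∃ (m : Matrix (Fin 2) (Fin 2) F) (d : F), m.det = d ∧ d ≠ 0 ∧ ¬ IsSquare d ∧
      m * (J : SL(2, F)).1 * m = d • (J : SL(2, F)).1 ∧ (d⁻¹ • (m * m)) ^ (2 ^ (k + 1)) = -1 := by
  obtain ⟨L, _, _, w, t, hw, hww, hwN⟩ := exists_trace hF ho hq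
  set m : Matrix (Fin 2) (Fin 2) F := !![0, 1; 1, t] with hm
  have hmm : m * m = t • m + 1 := by
    rw [hm]; simp [Matrix.one_fin_two, add_comm]
  have hpow : ∀ n, ∃ x y : F, w ^ n = algebraMap F L x * w + algebraMap F L y ∧
      m ^ n = x • m + y • (1 : Matrix (Fin 2) (Fin 2) F) := by
    intro n
    induction n with
    | zero => exact ⟨0, 1, by simp, by simp⟩
    | succ n ih =>
      obtain ⟨x, y, h1, h2⟩ := ih
      refine ⟨x * t + y, x, ?_, ?_⟩
      · rw [pow_succ, h1, map_add, map_mul]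
        linear_combination algebraMap F L x * hww
      · rw [pow_succ, h2, Matrix.add_mul, Matrix.smul_mul, Matrix.smul_mul, hmm, one_mul, smul_add,
          smul_smul, add_smul]
        abel
  obtain ⟨x, y, h1, h2⟩ := hpow (2 ^ (k + 2))
  rw [hwN] at h1
  have hx : x = 0 := by
    by_contra hx
    refine hw (-(1 + y) / x) ?_
    have : algebraMap F L x ≠ 0 := by simpa using hx
    rw [map_div₀, map_neg, map_add, map_one, div_eq_iff this]
    linear_combination h1
  subst hx
  have hy : y = -1 := (algebraMap F L).injective (by simp at h1; rw [map_neg, map_one, h1])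
  subst hy
  refine ⟨m, -1, by simp [hm, Matrix.det_fin_two_of], by simp, ?_, ?_, ?_⟩
  · rw [FiniteField.isSquare_neg_one_iff]
    have : 2 ^ (k + 2) * o = 4 * (2 ^ k * o) := by ring
    omega
  · show m * !![0, 1; -1, 0] * m = (-1 : F) • !![0, 1; -1, 0]
    rw [hm]; simp
  · have he : Even (2 ^ (k + 1)) := Nat.even_pow.2 ⟨even_two, by omega⟩
    rw [inv_neg_one, smul_pow, he.neg_one_pow, one_smul, ← pow_two, ← pow_mul, ← pow_succ', h2]
    simp

/-- The matrix, with the two-part of `q² - 1`. -/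
theorem exists_matrix (hF : Odd (Fintype.card F)) :
    ∃ (k o : ℕ) (m : Matrix (Fin 2) (Fin 2) F) (d : F), Odd o ∧ Fintype.card F ^ 2 - 1 = 2 ^ (k + 3) * o ∧
      m.det = d ∧ d ≠ 0 ∧ ¬ IsSquare d ∧
      m * (J : SL(2, F)).1 * m = d • (J : SL(2, F)).1 ∧ (d⁻¹ • (m * m)) ^ (2 ^ (k + 1)) = -1 := by
  have hq1 : 1 < Fintype.card F := Fintype.one_lt_card
  have hfac : Fintype.card F ^ 2 - 1 = (Fintype.card F + 1) * (Fintype.card F - 1) := by
    simpa using Nat.sq_sub_sq (Fintype.card F) 1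
  obtain ⟨n, hn⟩ := hF
  rcases Nat.even_or_odd n with hev | hodd
  · obtain ⟨a, o, ho, ha⟩ := Nat.exists_eq_two_pow_mul_odd (n := Fintype.card F - 1) (by omega)
    have ha2 : 2 ≤ a := by
      by_contra hlt
      obtain ⟨n', rfl⟩ := hev
      obtain ⟨o', rfl⟩ := ho
      interval_cases a <;> omega
    obtain ⟨k, rfl⟩ : ∃ k, a = k + 2 := ⟨a - 2, by omega⟩
    obtain ⟨m, d, h⟩ := exists_matrix_split ⟨n, hn⟩ ho ha
    refine ⟨k, o * (n + 1), m, d, ho.mul (hev.add_one), ?_, h⟩
    rw [hfac, ha, show Fintype.card F + 1 = 2 * (n + 1) by omega]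
    ring
  · obtain ⟨a, o, ho, ha⟩ := Nat.exists_eq_two_pow_mul_odd (n := Fintype.card F + 1) (by omega)
    have ha2 : 2 ≤ a := by
      by_contra hlt
      obtain ⟨n', rfl⟩ := hodd
      obtain ⟨o', rfl⟩ := ho
      interval_cases a <;> omega
    obtain ⟨k, rfl⟩ : ∃ k, a = k + 2 := ⟨a - 2, by omega⟩
    obtain ⟨m, d, h⟩ := exists_matrix_nonsplit ⟨n, hn⟩ ho ha
    refine ⟨k, o * n, m, d, ho.mul hodd, ?_, h⟩
    rw [hfac, ha, show Fintype.card F - 1 = 2 * n by omega]
    ring

end Cfsg.Agent.Lib.G2Fusion23
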