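import Mathlib

/-!
# Thompson transfer, refined: a fully centralised conjugate in a maximal subgroup (helper23)
-/

set_option autoImplicit false

namespace Cfsg.Agent.Lib.G2Fusion23

open Subgroup

set_option linter.style.haveILetI false
set_option linter.unusedSectionVars false

variable {G : Type*} [Group G] [Finite G]

/-- If a subgroup of index twice an odd number has `4k` cosets fixed by an involution, there is a
subgroup of index two. -/
theorem exists_index_two_of_fixed {α : Type*} [Finite α] [MulAction G α]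
    (hα : Nat.card α % 4 = 2) (t : G) (ht : orderOf t = 2)
    (hfix : Nat.card {x : α // t • x = x} % 4 = 0) : ∃ N : Subgroup G, N.index = 2 := by
  classical
  have := Fintype.ofFinite α
  let χ : G →* ℤˣ := Equiv.Perm.sign.comp (MulAction.toPermHom G α)
  set σ := MulAction.toPermHom G α t with hσ
  have hpow : σ ^ 2 = 1 := by rw [hσ, ← map_pow, ← ht, pow_orderOf_eq_one, map_one]
  have hf : Fintype.card (Function.fixedPoints σ) = Nat.card {x : α // t • x = x} := by
    rw [← Nat.card_eq_fintype_card]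
    rfl
  have hle : Nat.card {x : α // t • x = x} ≤ Fintype.card α := by
    rw [← hf]
    exact set_fintype_card_le_univ _
  have hsign : χ t = -1 := by
    show Equiv.Perm.sign σ = -1
    rw [Nat.card_eq_fintype_card] at hα
    rw [Equiv.Perm.sign_of_cycleType_eq_replicate (n := 2) (by norm_num)
      (Equiv.Perm.cycleType_of_pow_prime_eq_one hpow), hf, if_neg (by decide)]
    exact Odd.neg_one_pow (Nat.odd_iff.2 (by omega))
  refine ⟨χ.ker, ?_⟩
  rw [Subgroup.index_ker, MonoidHom.range_eq_top.2 ?_, Subgroup.card_top,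
    Nat.card_eq_fintype_card, Fintype.card_units_int]
  intro x
  rcases Int.units_eq_one_or x with rfl | rfl
  · exact ⟨1, map_one χ⟩
  · exact ⟨t, hsign⟩

/-- **Thompson transfer, refined**: some fully centralised conjugate of an involution lies in any
maximal subgroup of the Sylow 2-subgroup. -/
theorem exists_extremal_mem (S : Sylow 2 G) (M : Subgroup G) (hMS : M ≤ S)
    (hM : M.relIndex S = 2) (hG : ∀ N : Subgroup G, N.index ≠ 2) (t : G) (ht : orderOf t = 2)
    (htS : t ∈ (S : Subgroup G)) :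
    ∃ x ∈ M, IsConj t x ∧ ∀ y ∈ (S : Subgroup G), IsConj t y →
      Nat.card ↥((S : Subgroup G) ⊓ centralizer ({y} : Set G)) ≤
        Nat.card ↥((S : Subgroup G) ⊓ centralizer ({x} : Set G)) := by
  classical
  haveI : Fact (Nat.Prime 2) := ⟨Nat.prime_two⟩
  let c : G → ℕ := fun x => Nat.card ↥((S : Subgroup G) ⊓ centralizer ({x} : Set G))
  obtain ⟨t₀, ⟨ht₀S, htt₀⟩, hmax⟩ := Set.exists_max_image {x : G | x ∈ (S : Subgroup G) ∧ IsConj t x} c
    (Set.toFinite _) ⟨t, htS, IsConj.refl t⟩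
  by_contra hcon
  push Not at hcon
  have hno : ∀ x ∈ M, IsConj t x → c x < c t₀ := fun x hx hc => by
    obtain ⟨y, hy, hty, hlt⟩ := hcon x hx hc
    exact lt_of_lt_of_le hlt (hmax y ⟨hy, hty⟩)
  have ho : orderOf t₀ = 2 := by
    obtain ⟨g, rfl⟩ := isConj_iff.1 htt₀
    rw [← MulAut.conj_apply, MulEquiv.orderOf_eq, ht]
  have hnor : ∀ s ∈ (S : Subgroup G), ∀ x ∈ M, s * x * s⁻¹ ∈ M := by
    intro s hs x hx
    have hN : (M.subgroupOf (S : Subgroup G)).Normal := Subgroup.normal_of_index_eq_two hM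
    exact hN.conj_mem ⟨x, hMS hx⟩ hx ⟨s, hs⟩
  set T : Subgroup G := (S : Subgroup G) ⊓ centralizer ({t₀} : Set G) with hT
  have hcomm : ∀ τ ∈ T, τ * t₀ = t₀ * τ := fun τ hτ => mem_centralizer_singleton_iff.1 hτ.2
  let P : G ⧸ (S : Subgroup G) → Prop := fun y => ∃ g : G, ↑g = y ∧ g⁻¹ * t₀ * g ∈ M
  have hP : ∀ g : G, P ↑g ↔ g⁻¹ * t₀ * g ∈ M := fun g => by
    refine ⟨fun h => ?_, fun h => ⟨g, rfl, h⟩⟩
    obtain ⟨g', he, hm⟩ := h
    have hs : g⁻¹ * g' ∈ (S : Subgroup G) := QuotientGroup.eq.1 he.symm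
    have := hnor _ hs _ hm
    convert this using 1
    group
  have hsm : ∀ (τ : T) (y : G ⧸ (S : Subgroup G)), P y → P ((τ : G) • y) := by
    rintro τ y ⟨g, rfl, hm⟩
    rw [MulAction.Quotient.smul_mk, smul_eq_mul, hP]
    have e : ((τ : G) * g)⁻¹ * t₀ * ((τ : G) * g) = g⁻¹ * t₀ * g := by
      rw [mul_inv_rev, mul_assoc, mul_assoc, ← mul_assoc t₀ (τ : G) g, ← hcomm τ τ.2]
      group
    rw [e]
    exact hm
  letI instAct : MulAction T {y : G ⧸ (S : Subgroup G) // P y} :=
    { smul := fun τ y => ⟨(τ : G) • y.1, hsm τ y.1 y.2⟩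
      one_smul := fun y => Subtype.ext (one_smul G y.1)
      mul_smul := fun a b y => Subtype.ext (mul_smul (a : G) (b : G) y.1) }
  have heven : 2 ∣ Nat.card {y : G ⧸ (S : Subgroup G) // P y} := by
    have hTp : IsPGroup 2 T := S.2.to_le inf_le_left
    have h0 : Nat.card (MulAction.fixedPoints T {y : G ⧸ (S : Subgroup G) // P y}) = 0 := by
      rw [Nat.card_eq_zero]
      left
      refine ⟨fun a => ?_⟩
      obtain ⟨⟨y, g, rfl, hm⟩, hfx⟩ := a
      have hTg : ∀ τ ∈ T, g⁻¹ * τ * g ∈ (S : Subgroup G) := fun τ hτ => by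
        have h1 := congrArg Subtype.val (hfx ⟨τ, hτ⟩)
        change (τ : G) • (↑g : G ⧸ (S : Subgroup G)) = ↑g at h1
        rw [MulAction.Quotient.smul_mk, smul_eq_mul, QuotientGroup.eq] at h1
        have h2 := inv_mem h1
        rwa [show ((τ * g)⁻¹ * g)⁻¹ = g⁻¹ * τ * g by group] at h2
      have hcx : c t₀ ≤ c (g⁻¹ * t₀ * g) := by
        have hle : T.map (MulAut.conj g⁻¹).toMonoidHom ≤
            (S : Subgroup G) ⊓ centralizer ({g⁻¹ * t₀ * g} : Set G) := by
          rintro _ ⟨τ, hτ, rfl⟩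
          simp only [MulEquiv.coe_toMonoidHom, MulAut.conj_apply, inv_inv]
          refine ⟨hTg τ hτ, mem_centralizer_singleton_iff.2 ?_⟩
          calc g⁻¹ * τ * g * (g⁻¹ * t₀ * g) = g⁻¹ * (τ * t₀) * g := by group
            _ = g⁻¹ * (t₀ * τ) * g := by rw [hcomm τ hτ]
            _ = _ := by group
        have := Subgroup.card_le_of_le hle
        rwa [Subgroup.card_map_of_injective (MulAut.conj g⁻¹).injective] at this
      exact absurd hcx (not_le.2 (hno _ hm (htt₀.trans (isConj_iff.2 ⟨g⁻¹, by rw [inv_inv]⟩))))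
    have h1 := hTp.card_modEq_card_fixedPoints {y : G ⧸ (S : Subgroup G) // P y}
    rw [h0] at h1
    exact Nat.modEq_zero_iff_dvd.1 h1
  let e := Subgroup.quotientEquivProdOfLE hMS
  have hfst : ∀ g : G, (e (↑g : G ⧸ M)).1 = (↑g : G ⧸ (S : Subgroup G)) := fun g => rfl
  have hfixed : ∀ x : G ⧸ M, t₀ • x = x ↔ P (e x).1 := by
    intro x
    induction x using QuotientGroup.induction_on with
    | H k =>
      rw [hfst, hP, MulAction.Quotient.smul_mk, smul_eq_mul, QuotientGroup.eq]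
      rw [show (t₀ * k)⁻¹ * k = (k⁻¹ * t₀ * k)⁻¹ by group]
      exact inv_mem_iff
  have hF : Nat.card {x : G ⧸ M // t₀ • x = x} =
      Nat.card {y : G ⧸ (S : Subgroup G) // P y} * 2 := by
    have e2 : {x : G ⧸ M // t₀ • x = x} ≃
        {y : G ⧸ (S : Subgroup G) // P y} × (↥(S : Subgroup G) ⧸ M.subgroupOf (S : Subgroup G)) :=
      (e.subtypeEquiv hfixed).trans
        (Equiv.prodSubtypeFstEquivSubtypeProd (p := P))
    rw [Nat.card_congr e2, Nat.card_prod]
    congr 1
  have hidx : M.index % 4 = 2 := by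
    have h1 := relIndex_mul_index hMS
    rw [hM] at h1
    obtain ⟨k, hk⟩ := Nat.odd_iff.2 (Nat.two_dvd_ne_zero.1 S.not_dvd_index)
    omega
  obtain ⟨N, hN⟩ := exists_index_two_of_fixed (G := G) (α := G ⧸ M) hidx t₀ ho (by
    rw [hF]
    omega)
  exact hG N hN

end Cfsg.Agent.Lib.G2Fusion23
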