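import Cfsg.Agent.Lib.G2Fusion23.Local
import Cfsg.Agent.Lib.G2Fusion23.Transfer

/-!
# Involution classes for a Sylow 2-subgroup of type G₂(q) (helper23)
-/

set_option autoImplicit false
set_option linter.style.haveILetI false
set_option linter.unusedSectionVars false

namespace Cfsg.Agent.Lib.G2Fusion23

open Subgroup
open scoped Pointwise

variable {R : Type*} [CommRing R] [Finite R] {G : Type*} [Group G] [Finite G]

/-- The set-up. -/
structure Setup (φ : El R →* G) (S : Sylow 2 G) (h q : R) : Prop where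
  halves : Halves h q
  inj : Function.Injective φ
  range : φ.range = (S : Subgroup G)
  big : 8 < Nat.card (El R)
  noTwo : ∀ N : Subgroup G, N.index ≠ 2
  fused : ∃ g : G, g * φ ⟨h, h, false, false⟩ * g⁻¹ ∈ (S : Subgroup G) ∧
    g * φ ⟨h, h, false, false⟩ * g⁻¹ ≠ φ ⟨h, h, false, false⟩

variable {φ : El R →* G} {S : Sylow 2 G} {h q : R}

theorem Setup.mem (D : Setup φ S h q) (x : El R) : φ x ∈ (S : Subgroup G) := D.range ▸ ⟨x, rfl⟩

theorem Setup.exists_eq (D : Setup φ S h q) {g : G} (hg : g ∈ (S : Subgroup G)) : ∃ x, φ x = g := by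
  rw [← D.range] at hg
  exact hg

theorem Setup.card_cent (D : Setup φ S h q) (x : El R) :
    Nat.card ↥((S : Subgroup G) ⊓ centralizer ({φ x} : Set G)) =
      Nat.card (centralizer ({x} : Set (El R))) := by
  rw [← Subgroup.card_map_of_injective (K := centralizer ({x} : Set (El R))) D.inj]
  congr 1
  rw [show (S : Subgroup G) ⊓ centralizer ({φ x} : Set G) = (centralizer ({x} : Set (El R))).map φ from ?_]
  ext g
  constructor
  · rintro ⟨hg, hc⟩
    obtain ⟨y, rfl⟩ := D.exists_eq hg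
    refine ⟨y, mem_centralizer_singleton_iff.2 (D.inj ?_), rfl⟩
    rw [map_mul, map_mul]
    exact mem_centralizer_singleton_iff.1 hc
  · rintro ⟨y, hy, rfl⟩
    refine ⟨D.mem y, mem_centralizer_singleton_iff.2 ?_⟩
    rw [← map_mul, ← map_mul, mem_centralizer_singleton_iff.1 hy]

theorem Setup.zS (D : Setup φ S h q) :
    (S : Subgroup G) ≤ centralizer ({φ ⟨h, h, false, false⟩} : Set G) := by
  intro g hg
  obtain ⟨y, rfl⟩ := D.exists_eq hg
  rw [mem_centralizer_singleton_iff, ← map_mul, ← map_mul, zed_central D.halves]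

theorem Setup.sq (D : Setup φ S h q) {x : El R} (hx : orderOf (φ x) = 2) : x * x = 1 ∧ x ≠ 1 := by
  refine ⟨D.inj ?_, fun e => ?_⟩
  · rw [map_mul, map_one, ← pow_two, ← hx, pow_orderOf_eq_one]
  · rw [e, map_one, orderOf_one] at hx
    omega

/-- A subgroup of the centraliser of a conjugate of a central involution moves into `S`. -/
theorem Setup.exists_into (D : Setup φ S h q) {y g : G} (hy : g * φ ⟨h, h, false, false⟩ * g⁻¹ = y)
    (Q : Subgroup G) (hQ : IsPGroup 2 Q) (hQy : Q ≤ centralizer ({y} : Set G)) :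
    ∃ m : G, m * y * m⁻¹ = φ ⟨h, h, false, false⟩ ∧ ∀ a ∈ Q, m * a * m⁻¹ ∈ (S : Subgroup G) := by
  haveI : Fact (Nat.Prime 2) := ⟨Nat.prime_two⟩
  have hSg : ∀ a ∈ (g • S : Sylow 2 G), a * y = y * a := by
    intro a ha
    rw [← hy]
    have h1 : g⁻¹ * a * g ∈ (S : Subgroup G) := by
      have h2 : a ∈ MulAut.conj g • (S : Subgroup G) := ha
      rw [Subgroup.mem_pointwise_smul_iff_inv_smul_mem] at h2
      simpa using h2
    have h3 := mem_centralizer_singleton_iff.1 (D.zS h1)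
    calc a * (g * φ ⟨h, h, false, false⟩ * g⁻¹) = g * ((g⁻¹ * a * g) * φ ⟨h, h, false, false⟩) * g⁻¹ := by
          group
      _ = g * (φ ⟨h, h, false, false⟩ * (g⁻¹ * a * g)) * g⁻¹ := by rw [h3]
      _ = _ := by group
  have hle : ((g • S : Sylow 2 G) : Subgroup G) ≤ centralizer ({y} : Set G) := fun a ha =>
    mem_centralizer_singleton_iff.2 (hSg a ha)
  obtain ⟨P, hP⟩ := (hQ.comap_of_injective (centralizer ({y} : Set G)).subtype
    Subtype.val_injective).exists_le_sylow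
  obtain ⟨c, hc⟩ := MulAction.exists_smul_eq (centralizer ({y} : Set G)) P
    ((g • S : Sylow 2 G).subtype hle)
  refine ⟨g⁻¹ * (c : G), ?_, fun a ha => ?_⟩
  · have h1 := mem_centralizer_singleton_iff.1 c.2
    calc g⁻¹ * (c : G) * y * (g⁻¹ * (c : G))⁻¹ = g⁻¹ * ((c : G) * y) * (c : G)⁻¹ * g := by group
      _ = g⁻¹ * (y * (c : G)) * (c : G)⁻¹ * g := by rw [h1]
      _ = g⁻¹ * y * g := by group
      _ = g⁻¹ * (g * φ ⟨h, h, false, false⟩ * g⁻¹) * g := by rw [hy]
      _ = φ ⟨h, h, false, false⟩ := by group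
  · have h1 : (⟨a, hQy ha⟩ : centralizer ({y} : Set G)) ∈ P := hP ha
    have h2 : c * ⟨a, hQy ha⟩ * c⁻¹ ∈ (c • P : Sylow 2 (centralizer ({y} : Set G))) := by
      show c * ⟨a, hQy ha⟩ * c⁻¹ ∈ MulAut.conj c • (P : Subgroup (centralizer ({y} : Set G)))
      rw [Subgroup.mem_pointwise_smul_iff_inv_smul_mem]
      simpa [mul_assoc] using (show (⟨a, hQy ha⟩ : centralizer ({y} : Set G)) ∈
        (P : Subgroup (centralizer ({y} : Set G))) from h1)
    rw [hc] at h2
    have h3 : (c : G) * a * (c : G)⁻¹ ∈ (g • S : Sylow 2 G) := h2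
    change (c : G) * a * (c : G)⁻¹ ∈ MulAut.conj g • (S : Subgroup G) at h3
    rw [Subgroup.mem_pointwise_smul_iff_inv_smul_mem] at h3
    simpa [mul_assoc] using h3

/-- The involution `(h, 0)` is fused to the central one. -/
theorem Setup.half_conj (D : Setup φ S h q) :
    IsConj (φ ⟨h, h, false, false⟩) (φ ⟨h, 0, false, false⟩) := by
  classical
  haveI : Fact (Nat.Prime 2) := ⟨Nat.prime_two⟩
  have H := D.halves
  by_contra hE
  set z := φ ⟨h, h, false, false⟩ with hz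
  have hE' : ¬ IsConj z (φ ⟨0, h, false, false⟩) := fun hc => hE (hc.trans (isConj_iff.2
    ⟨(φ ⟨0, 0, false, true⟩)⁻¹, by rw [← conj_half h, map_mul, map_mul, map_inv]; group⟩))
  let c : G → ℕ := fun x => Nat.card ↥((S : Subgroup G) ⊓ centralizer ({x} : Set G))
  obtain ⟨g₁, hg₁, hne₁⟩ := D.fused
  obtain ⟨y, ⟨hyS, hzy, hyz⟩, hmax⟩ := Set.exists_max_image
    {x : G | x ∈ (S : Subgroup G) ∧ IsConj z x ∧ x ≠ z} c (Set.toFinite _)
    ⟨_, hg₁, isConj_iff.2 ⟨g₁, rfl⟩, hne₁⟩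
  obtain ⟨g, hg⟩ := isConj_iff.1 hzy
  obtain ⟨Y, rfl⟩ := D.exists_eq hyS
  have hzord : orderOf z = 2 := by
    refine orderOf_eq_prime ?_ fun e => H.h_ne ?_
    · rw [hz, ← map_pow, pow_two, show (⟨h, h, false, false⟩ : El R) * ⟨h, h, false, false⟩ = 1 by
        simp [El.mul_def, El.one_def, twist, H.two_h], map_one]
    · have := D.inj (e.trans (map_one φ).symm)
      exact (congrArg El.i this)
  have hYord : orderOf (φ Y) = 2 := by rw [← hg, ← MulAut.conj_apply, MulEquiv.orderOf_eq, hzord]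
  obtain ⟨hY2, hY1⟩ := D.sq hYord
  have hcomm : ¬ CommIn (⟨h, h, false, false⟩ : El R) Y := by
    rintro ⟨a, b, ha, hb, hab⟩
    obtain ⟨m, hm, hmS⟩ := D.exists_into hg ((S : Subgroup G) ⊓ centralizer ({φ Y} : Set G))
      (S.2.to_le inf_le_left) inf_le_right
    have mem : ∀ x : El R, x * Y = Y * x → m * φ x * m⁻¹ ∈ (S : Subgroup G) := fun x hx => hmS _
      ⟨D.mem x, mem_centralizer_singleton_iff.2 (by rw [← map_mul, ← map_mul, hx])⟩
    obtain ⟨a', ha'⟩ := D.exists_eq (mem a ha)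
    obtain ⟨b', hb'⟩ := D.exists_eq (mem b hb)
    have e1 : φ (a' * b' * a'⁻¹ * b'⁻¹) = m * z * m⁻¹ := by
      have e0 : z = φ a * φ b * (φ a)⁻¹ * (φ b)⁻¹ := by
        rw [hz, ← map_inv, ← map_inv, ← map_mul, ← map_mul, ← map_mul]
        congr 1
        rw [hab]; group
      rw [map_mul, map_mul, map_mul, map_inv, map_inv, ha', hb', e0]
      group
    obtain ⟨hw2, hw1⟩ := D.sq (x := a' * b' * a'⁻¹ * b'⁻¹)
      (by rw [e1, ← MulAut.conj_apply, MulEquiv.orderOf_eq, hzord])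
    have hk : (a' * b' * a'⁻¹ * b'⁻¹).k = false ∧ (a' * b' * a'⁻¹ * b'⁻¹).l = false := by
      obtain ⟨a₀, b₀, k, l⟩ := a'
      obtain ⟨c₀, d₀, k', l'⟩ := b'
      cases k <;> cases l <;> cases k' <;> cases l' <;> simp [El.mul_def, El.inv_def]
    have hconj : IsConj z (φ (a' * b' * a'⁻¹ * b'⁻¹)) := e1 ▸ isConj_iff.2 ⟨m, rfl⟩
    rcases sq_cases H hw2 hw1 with e | e | e | ⟨e, -⟩ | ⟨x, e⟩ | ⟨x, e⟩
    · rw [e, ← hz] at e1
      exact hyz (mul_left_cancel (mul_right_cancel (hm.trans e1)))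
    · exact hE (e ▸ hconj)
    · exact hE' (e ▸ hconj)
    · rw [hk.1] at e
      exact Bool.false_ne_true e
    · rw [e] at hk
      exact Bool.false_ne_true hk.2.symm
    · rw [e] at hk
      exact Bool.false_ne_true hk.2.symm
  obtain ⟨ya, yb, rfl, hodd⟩ : ∃ a b, Y = ⟨a, b, true, false⟩ ∧ ∀ x : R, x + x ≠ a - b := by
    rcases sq_cases H hY2 hY1 with rfl | rfl | rfl | ⟨ek, el⟩ | ⟨x, rfl⟩ | ⟨x, rfl⟩
    · exact absurd rfl hyz
    · exact absurd hzy hE
    · exact absurd hzy hE'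
    · refine ⟨Y.i, Y.j, El.ext rfl rfl ek el, fun x hx => hcomm ?_⟩
      have := commIn_even H hx
      rwa [show (⟨Y.i, Y.j, true, false⟩ : El R) = Y from El.ext rfl rfl ek.symm el.symm] at this
    · exact absurd (commIn_swap H x) hcomm
    · exact absurd (commIn_swapInv H x) hcomm
  set B : Subgroup G :=
    (centralizer ({(⟨ya, yb, true, false⟩ : El R)} : Set (El R))).map φ with hB
  have hBS : B ≤ (S : Subgroup G) := by rintro _ ⟨x, -, rfl⟩; exact D.mem x
  have hBy : B ≤ centralizer ({φ ⟨ya, yb, true, false⟩} : Set G) := by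
    rintro _ ⟨x, hx, rfl⟩
    rw [mem_centralizer_singleton_iff, ← map_mul, ← map_mul, mem_centralizer_singleton_iff.1 hx]
  have hBz : B ≤ centralizer ({z} : Set G) := hBS.trans D.zS
  have hBcard : Nat.card B = c (φ ⟨ya, yb, true, false⟩) := by
    show _ = Nat.card ↥((S : Subgroup G) ⊓ _)
    rw [D.card_cent, hB, Subgroup.card_map_of_injective D.inj]
  have hq2 : q + q = h := H.two_q
  have hBclass : ∀ b ∈ B, b ≠ 1 → ¬ IsConj z b →
      b = φ ⟨h, 0, false, false⟩ ∨ b = φ ⟨0, h, false, false⟩ := by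
    rintro _ ⟨⟨i, j, k, l⟩, hx, rfl⟩ hb1 hbz
    rcases cases_of_commute H hodd (mem_centralizer_singleton_iff.1 hx) with
      e | e | e | e | ⟨ek, el, ei, ej⟩
    · exact absurd (by rw [e, map_one]) hb1
    · exact absurd (by rw [e]) hbz
    · exact Or.inl (by rw [e])
    · exact Or.inr (by rw [e])
    · simp only at ek el ei ej
      subst ek el
      exfalso
      apply hbz
      refine hzy.trans ?_
      obtain ⟨p, hp⟩ : ∃ p, i = ya + (p + p) := by
        rcases ei with rfl | rfl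
        · exact ⟨0, by simp⟩
        · exact ⟨q, by rw [hq2]⟩
      obtain ⟨p', hp'⟩ : ∃ p, j = yb + (p + p) := by
        rcases ej with rfl | rfl
        · exact ⟨0, by simp⟩
        · exact ⟨q, by rw [hq2]⟩
      subst hp hp'
      exact isConj_iff.2 ⟨φ ⟨p, p', false, false⟩, by rw [← map_inv, ← map_mul, ← map_mul, conj_shift]⟩
  obtain ⟨m, hm, hmS⟩ := D.exists_into hg B (S.2.to_le hBS) hBy
  set B' : Subgroup G := B.map (MulAut.conj m).toMonoidHom with hB'
  have hB'S : B' ≤ (S : Subgroup G) := by rintro _ ⟨a, ha, rfl⟩; exact hmS a ha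
  have hB'card : Nat.card B' = Nat.card B := Subgroup.card_map_of_injective (MulAut.conj m).injective
  have hB8 : Nat.card B ≤ 8 := by
    rw [hB, Subgroup.card_map_of_injective D.inj]
    classical
    let F : Finset (El R) := [1, ⟨h, h, false, false⟩, ⟨h, 0, false, false⟩, ⟨0, h, false, false⟩,
      ⟨ya, yb, true, false⟩, ⟨ya + h, yb, true, false⟩, ⟨ya, yb + h, true, false⟩,
      (⟨ya + h, yb + h, true, false⟩ : El R)].toFinset
    have hsub : (centralizer ({(⟨ya, yb, true, false⟩ : El R)} : Set (El R)) : Set (El R)) ⊆ F := by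
      intro x hx
      rcases cases_of_commute H hodd (mem_centralizer_singleton_iff.1 hx) with
        e | e | e | e | ⟨ek, el, ei, ej⟩
      · simp [F, e]
      · simp [F, e]
      · simp [F, e]
      · simp [F, e]
      · obtain ⟨i, j, k, l⟩ := x
        simp only at ek el ei ej
        subst ek el
        rcases ei with rfl | rfl <;> rcases ej with rfl | rfl <;> simp [F]
    calc Nat.card _ ≤ Nat.card (F : Set (El R)) := Nat.card_mono (Finset.finite_toSet F) hsub
      _ ≤ 8 := by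
        rw [Nat.card_coe_set_eq, Set.ncard_coe_finset]
        exact (List.toFinset_card_le _).trans (by simp)
  have hlt : B' < (S : Subgroup G) := by
    refine lt_of_le_of_ne hB'S fun e => ?_
    have h1 : Nat.card (S : Subgroup G) = Nat.card (El R) := by
      rw [← D.range]
      exact Nat.card_congr (MonoidHom.ofInjective D.inj).toEquiv.symm
    rw [← e, hB'card] at h1
    have := D.big
    omega
  haveI : Group.IsNilpotent ↥(S : Subgroup G) := S.2.isNilpotent
  have hlt' : B'.subgroupOf (S : Subgroup G) < ⊤ := by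
    rw [lt_top_iff_ne_top, Ne, Subgroup.subgroupOf_eq_top]
    exact hlt.not_ge
  obtain ⟨n, hn, hnB⟩ := SetLike.exists_of_lt 
    ((Group.normalizerCondition_of_isNilpotent (G := ↥(S : Subgroup G))) _ hlt')
  rw [Subgroup.mem_subgroupOf] at hnB
  set n' : G := m⁻¹ * (n : G) * m with hn'
  have hnn : ∀ b ∈ B, n' * b * n'⁻¹ ∈ B := by
    intro b hb
    have h1 : (⟨m * b * m⁻¹, hmS b hb⟩ : ↥(S : Subgroup G)) ∈ B'.subgroupOf (S : Subgroup G) :=
      ⟨b, hb, rfl⟩
    have h2 := (Subgroup.mem_normalizer_iff.1 hn _).1 h1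
    rw [Subgroup.mem_subgroupOf] at h2
    obtain ⟨b', hb', he⟩ := h2
    simp only [MulEquiv.coe_toMonoidHom, MulAut.conj_apply, Subgroup.coe_mul, Subgroup.coe_inv] at he
    have e : n' * b * n'⁻¹ = b' := by
      rw [hn', show b' = m⁻¹ * (m * b' * m⁻¹) * m by group, he]
      group
    rw [e]
    exact hb'
  have hny : n' * φ ⟨ya, yb, true, false⟩ = φ ⟨ya, yb, true, false⟩ * n' := by
    have h1 := mem_centralizer_singleton_iff.1 (D.zS n.2)
    rw [← hm] at h1
    calc n' * φ ⟨ya, yb, true, false⟩ = m⁻¹ * ((n : G) * (m * φ ⟨ya, yb, true, false⟩ * m⁻¹)) * m := by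
          rw [hn']; group
      _ = m⁻¹ * ((m * φ ⟨ya, yb, true, false⟩ * m⁻¹) * (n : G)) * m := by rw [h1]
      _ = _ := by rw [hn']; group
  have hE1 : φ ⟨h, 0, false, false⟩ ∈ B := ⟨_, mem_centralizer_singleton_iff.2
    (by simp [El.mul_def, twist, H.neg_h, add_comm]), rfl⟩
  have hE2 : φ ⟨0, h, false, false⟩ ∈ B := ⟨_, mem_centralizer_singleton_iff.2
    (by simp [El.mul_def, twist, H.neg_h, add_comm]), rfl⟩
  have hEne : ∀ {x : El R}, x ≠ 1 → φ x ≠ 1 := fun hx e => hx (D.inj (e.trans (map_one φ).symm))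
  have himg : ∀ b ∈ B, b ≠ 1 → ¬ IsConj z b →
      n' * b * n'⁻¹ = φ ⟨h, 0, false, false⟩ ∨ n' * b * n'⁻¹ = φ ⟨0, h, false, false⟩ := fun b hb hb1 hbz =>
    hBclass _ (hnn b hb) (fun e => hb1 (by simpa using e))
      (fun hc => hbz (hc.trans (isConj_iff.2 ⟨n'⁻¹, by group⟩)))
  have e12 : φ ⟨h, 0, false, false⟩ * φ ⟨0, h, false, false⟩ = z := by
    rw [hz, ← map_mul]; simp [El.mul_def, twist]
  have e21 : φ ⟨0, h, false, false⟩ * φ ⟨h, 0, false, false⟩ = z := by
    rw [hz, ← map_mul]; simp [El.mul_def, twist]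
  have h10 : (⟨h, 0, false, false⟩ : El R) ≠ 1 := fun e => H.h_ne (congrArg El.i e)
  have h01 : (⟨0, h, false, false⟩ : El R) ≠ 1 := fun e => H.h_ne (congrArg El.j e)
  have hdiff : φ ⟨h, 0, false, false⟩ ≠ φ ⟨0, h, false, false⟩ := fun e =>
    H.h_ne (congrArg El.i (D.inj e))
  have hnz : n' * z = z * n' := by
    have hne : n' * φ ⟨h, 0, false, false⟩ * n'⁻¹ ≠ n' * φ ⟨0, h, false, false⟩ * n'⁻¹ := fun e =>
      hdiff (mul_left_cancel (mul_right_cancel e))
    have h3 : n' * z * n'⁻¹ = z := by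
      have h4 : n' * z * n'⁻¹ = (n' * φ ⟨h, 0, false, false⟩ * n'⁻¹) * (n' * φ ⟨0, h, false, false⟩ * n'⁻¹) := by
        rw [← e12]; group
      rcases himg _ hE1 (hEne h10) hE with a1 | a1 <;> rcases himg _ hE2 (hEne h01) hE' with a2 | a2
      · exact absurd (a1.trans a2.symm) hne
      · rw [h4, a1, a2, e12]
      · rw [h4, a1, a2, e21]
      · exact absurd (a1.trans a2.symm) hne
    exact mul_inv_eq_iff_eq_mul.1 h3
  set Q : Subgroup G := B ⊔ zpowers n' with hQ
  have hQy : Q ≤ centralizer ({φ ⟨ya, yb, true, false⟩} : Set G) :=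
    sup_le hBy (zpowers_le.2 (mem_centralizer_singleton_iff.2 hny))
  have hQz : Q ≤ centralizer ({z} : Set G) :=
    sup_le hBz (zpowers_le.2 (mem_centralizer_singleton_iff.2 hnz))
  have hQp : IsPGroup 2 Q := by
    have hle : Q ≤ (S : Subgroup G).map (MulAut.conj m⁻¹).toMonoidHom := by
      refine sup_le (fun b hb => ⟨m * b * m⁻¹, hmS b hb, ?_⟩) (zpowers_le.2 ⟨n, n.2, ?_⟩)
      · simp only [MulEquiv.coe_toMonoidHom, MulAut.conj_apply]; group
      · simp [hn']
    exact (S.2.map _).to_le hle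
  obtain ⟨r, hr, hrS⟩ := D.exists_into (g := 1) (y := z) (by rw [hz]; group) Q hQp hQz
  have hy' : r * φ ⟨ya, yb, true, false⟩ * r⁻¹ ∈ (S : Subgroup G) :=
    hrS _ (le_sup_left (a := B) ⟨_, mem_centralizer_singleton_iff.2 rfl, rfl⟩)
  have hne' : r * φ ⟨ya, yb, true, false⟩ * r⁻¹ ≠ z := fun e =>
    hyz (mul_left_cancel (mul_right_cancel (e.trans hr.symm)))
  have hle := hmax _ ⟨hy', hzy.trans (isConj_iff.2 ⟨r, rfl⟩), hne'⟩
  have hQle : Q.map (MulAut.conj r).toMonoidHom ≤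
      (S : Subgroup G) ⊓ centralizer ({r * φ ⟨ya, yb, true, false⟩ * r⁻¹} : Set G) := by
    rintro _ ⟨a, ha, rfl⟩
    simp only [MulEquiv.coe_toMonoidHom, MulAut.conj_apply]
    refine ⟨hrS a ha, mem_centralizer_singleton_iff.2 ?_⟩
    have h1 := mem_centralizer_singleton_iff.1 (hQy ha)
    calc r * a * r⁻¹ * (r * φ ⟨ya, yb, true, false⟩ * r⁻¹)
        = r * (a * φ ⟨ya, yb, true, false⟩) * r⁻¹ := by group
      _ = r * (φ ⟨ya, yb, true, false⟩ * a) * r⁻¹ := by rw [h1]
      _ = _ := by group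
  have h1 := Subgroup.card_le_of_le hQle
  rw [Subgroup.card_map_of_injective (MulAut.conj r).injective] at h1
  have h2 : Nat.card B < Nat.card Q := by
    refine Nat.lt_of_le_of_ne (Subgroup.card_le_of_le le_sup_left) fun e => hnB ?_
    have heq : B = Q := Subgroup.eq_of_le_of_card_ge le_sup_left e.ge
    have hmem : n' ∈ B := heq.symm ▸ le_sup_right (a := B) (mem_zpowers n')
    exact ⟨n', hmem, by simp only [MulEquiv.coe_toMonoidHom, MulAut.conj_apply, hn']; group⟩
  simp only [c] at hle hBcard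
  omega

/-- Every involution of the Sylow subgroup is fused to `z` or to the swap. -/
theorem Setup.two_classes (D : Setup φ S h q) {t : G} (ht : orderOf t = 2) :
    IsConj (φ ⟨h, h, false, false⟩) t ∨ IsConj (φ ⟨0, 0, false, true⟩) t := by
  haveI : Fact (Nat.Prime 2) := ⟨Nat.prime_two⟩
  obtain ⟨S', hS'⟩ := (IsPGroup.of_card (n := 1) (by rw [Nat.card_zpowers, ht, pow_one]) :
    IsPGroup 2 (zpowers t)).exists_le_sylow
  obtain ⟨g₀, hg₀⟩ := MulAction.exists_smul_eq G S' S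
  have htS : g₀ * t * g₀⁻¹ ∈ (S : Subgroup G) := by
    rw [← hg₀]
    show g₀ * t * g₀⁻¹ ∈ MulAut.conj g₀ • (S' : Subgroup G)
    rw [Subgroup.mem_pointwise_smul_iff_inv_smul_mem]
    simpa [mul_assoc] using hS' (mem_zpowers t)
  have ht' : orderOf (g₀ * t * g₀⁻¹) = 2 := by rw [← MulAut.conj_apply, MulEquiv.orderOf_eq, ht]
  obtain ⟨_, ⟨X, hX, rfl⟩, hxt, -⟩ := exists_extremal_mem S ((kHom (R := R)).ker.map φ)
    (by rintro _ ⟨a, -, rfl⟩; exact D.mem a)
    (by
      rw [← D.range, MonoidHom.range_eq_map, Subgroup.relIndex_map_map_of_injective _ _ D.inj,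
        Subgroup.relIndex_top_right, kHom_index])
    D.noTwo _ ht' htS
  have hXord : orderOf (φ X) = 2 := by
    obtain ⟨a, ha⟩ := isConj_iff.1 hxt
    rw [← ha, ← MulAut.conj_apply, MulEquiv.orderOf_eq, ht']
  have htX : IsConj (φ X) t := ((isConj_iff.2 ⟨g₀, rfl⟩ : IsConj t (g₀ * t * g₀⁻¹)).trans hxt).symm
  obtain ⟨hX2, hX1⟩ := D.sq hXord
  rw [SetLike.mem_coe, mem_kHom] at hX
  rcases sq_cases D.halves hX2 hX1 with rfl | rfl | rfl | ⟨e, -⟩ | ⟨a, rfl⟩ | ⟨a, rfl⟩
  · exact Or.inl htX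
  · exact Or.inl (D.half_conj.trans htX)
  · refine Or.inl ((D.half_conj.trans (isConj_iff.2 ⟨φ ⟨0, 0, false, true⟩, ?_⟩)).trans htX)
    rw [← map_inv, ← map_mul, ← map_mul, conj_half]
  · rw [hX] at e
    exact absurd e Bool.false_ne_true
  · refine Or.inr ((isConj_iff.2 ⟨φ ⟨a, 0, false, false⟩, ?_⟩ : IsConj _ _).trans htX)
    rw [← map_inv, ← map_mul, ← map_mul, conj_swap]
  · exact absurd hX (by simp)

/-- If the translations are large, there is one class. -/
theorem Setup.swap_conj (D : Setup φ S h q) (hR : 8 ≤ Nat.card R) :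
    IsConj (φ ⟨h, h, false, false⟩) (φ ⟨0, 0, false, true⟩) := by
  haveI : Fact (Nat.Prime 2) := ⟨Nat.prime_two⟩
  have H := D.halves
  have hword : orderOf (φ (⟨0, 0, false, true⟩ : El R)) = 2 := by
    refine orderOf_eq_prime ?_ fun e => ?_
    · rw [← map_pow, pow_two, show (⟨0, 0, false, true⟩ : El R) * ⟨0, 0, false, true⟩ = 1 by
        simp [El.mul_def, El.one_def, twist], map_one]
    · have := congrArg El.l (D.inj (e.trans (map_one φ).symm))
      exact Bool.false_ne_true this.symm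
  obtain ⟨_, ⟨X, hX, rfl⟩, hxt, hmax⟩ := exists_extremal_mem S ((lHom (R := R)).ker.map φ)
    (by rintro _ ⟨a, -, rfl⟩; exact D.mem a)
    (by
      rw [← D.range, MonoidHom.range_eq_map, Subgroup.relIndex_map_map_of_injective _ _ D.inj,
        Subgroup.relIndex_top_right, lHom_index])
    D.noTwo _ hword (D.mem _)
  have hXord : orderOf (φ X) = 2 := by
    obtain ⟨a, ha⟩ := isConj_iff.1 hxt
    rw [← ha, ← MulAut.conj_apply, MulEquiv.orderOf_eq, hword]
  obtain ⟨hX2, hX1⟩ := D.sq hXord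
  rw [SetLike.mem_coe, mem_lHom] at hX
  rcases sq_cases H hX2 hX1 with rfl | rfl | rfl | ⟨e, e'⟩ | ⟨a, rfl⟩ | ⟨a, rfl⟩
  · exact hxt.symm
  · exact D.half_conj.trans hxt.symm
  · refine (D.half_conj.trans (isConj_iff.2 ⟨φ ⟨0, 0, false, true⟩, ?_⟩)).trans hxt.symm
    rw [← map_inv, ← map_mul, ← map_mul, conj_half]
  · exfalso
    have h1 := hmax _ (D.mem _) (IsConj.refl _)
    rw [D.card_cent, D.card_cent] at h1
    have h2 := card_centralizer_le H X.i X.j
    rw [show (⟨X.i, X.j, true, false⟩ : El R) = X from El.ext rfl rfl e.symm e'.symm] at h2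
    let f : R × Bool × Bool → centralizer ({(⟨0, 0, false, true⟩ : El R)} : Set (El R)) := fun p =>
      ⟨⟨p.1, p.1, p.2.1, p.2.2⟩, mem_centralizer_singleton_iff.2 (by
        obtain ⟨r, k, l⟩ := p
        cases k <;> cases l <;> simp [El.mul_def, twist])⟩
    have hf : Function.Injective f := by
      rintro ⟨r, k, l⟩ ⟨r', k', l'⟩ he
      have h0 := congrArg Subtype.val he
      simp only [f, El.ext_iff] at h0
      obtain ⟨rfl, -, rfl, rfl⟩ := h0
      rfl
    have h3 := Nat.card_le_card_of_injective f hf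
    simp [Nat.card_prod] at h3
    omega
  · exact absurd hX (by simp)
  · exact absurd hX (by simp)

end Cfsg.Agent.Lib.G2Fusion23
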