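import Cfsg.Agent.Lib.G2Fusion23.Local
import Cfsg.Agent.Lib.PGroups.Omega

/-!
# Homomorphisms out of the model (helper23)
-/

set_option autoImplicit false
set_option linter.style.haveILetI false

namespace Cfsg.Agent.Lib.G2Fusion23

variable {G : Type*} [Group G]

theorem pow_val_add {N : ℕ} [NeZero N] {e : G} (he : e ^ N = 1) (a b : ZMod N) :
    e ^ (a + b).val = e ^ a.val * e ^ b.val := by
  rw [← pow_add, ZMod.val_add, ← pow_eq_pow_mod _ he]

theorem pow_val_neg {N : ℕ} [NeZero N] {e : G} (he : e ^ N = 1) (a : ZMod N) :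
    e ^ (-a).val = (e ^ a.val)⁻¹ := by
  refine eq_inv_of_mul_eq_one_left ?_
  rw [← pow_val_add he, neg_add_cancel, ZMod.val_zero, pow_zero]

theorem val_half (k : ℕ) : ((2 : ℕ) ^ (k + 1) : ZMod (2 ^ (k + 2))).val = 2 ^ (k + 1) := by
  have h : 2 ^ (k + 1) < 2 ^ (k + 2) := Nat.pow_lt_pow_right (by norm_num) (by omega)
  rw [show ((2 : ℕ) ^ (k + 1) : ZMod (2 ^ (k + 2))) = ((2 ^ (k + 1) : ℕ) : ZMod (2 ^ (k + 2))) by push_cast; rfl,
    ZMod.val_natCast, Nat.mod_eq_of_lt h]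

/-- The translations of `El (ZMod 2^(k+2))` have one involution. -/
theorem halves (k : ℕ) :
    Halves (((2 : ℕ) ^ (k + 1) : ZMod (2 ^ (k + 2)))) (((2 : ℕ) ^ k : ZMod (2 ^ (k + 2)))) where
  two_q := by push_cast; ring
  two_h := by
    have : ((2 ^ (k + 2) : ℕ) : ZMod (2 ^ (k + 2))) = 0 := ZMod.natCast_self _
    push_cast at this ⊢
    linear_combination this
  h_ne := fun e => by
    have := congrArg ZMod.val e
    rw [val_half, ZMod.val_zero] at this
    simp at this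
  tor x hx := by
    have h1 := congrArg ZMod.val hx
    rw [ZMod.val_add, ZMod.val_zero] at h1
    have h2 := ZMod.val_lt x
    obtain ⟨c, hc⟩ := Nat.dvd_of_mod_eq_zero h1
    have e : 2 ^ (k + 2) = 2 * 2 ^ (k + 1) := by ring
    have hc2 : c = 0 ∨ c = 1 := by
      rcases c with _ | _ | c
      · exact Or.inl rfl
      · exact Or.inr rfl
      · exfalso; rw [Nat.mul_add, Nat.mul_add] at hc; omega
    rcases hc2 with rfl | rfl
    · exact Or.inl ((ZMod.val_eq_zero x).1 (by omega))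
    · refine Or.inr (ZMod.val_injective _ ?_)
      rw [val_half]
      omega

theorem two_ne (k : ℕ) : (1 : ZMod (2 ^ (k + 2))) + 1 ≠ 0 := by
  intro e
  have e' : ((2 : ℕ) : ZMod (2 ^ (k + 2))) = 0 := by push_cast; linear_combination e
  have h := Nat.le_of_dvd (by norm_num) ((ZMod.natCast_eq_zero_iff _ _).1 e')
  have : 4 ≤ 2 ^ (k + 2) := by
    rw [pow_add]; have := Nat.one_le_two_pow (n := k); omega
  omega

/-- Generators with the relations of the model give a homomorphism. -/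
theorem exists_hom {N : ℕ} [NeZero N] {e₁ e₂ v w : G} (h₁ : e₁ ^ N = 1) (h₂ : e₂ ^ N = 1)
    (hc : Commute e₁ e₂) (hv : v * v = 1) (hw : w * w = 1) (hvw : Commute v w)
    (hv₁ : v * e₁ = e₁⁻¹ * v) (hv₂ : v * e₂ = e₂⁻¹ * v) (hw₁ : w * e₁ = e₂ * w) (hw₂ : w * e₂ = e₁ * w) :
    ∃ φ : El (ZMod N) →* G, ∀ x, φ x = e₁ ^ x.i.val * e₂ ^ x.j.val * (cond x.k v 1 * cond x.l w 1) := by
  have cE : ∀ a b : ℕ, Commute (e₁ ^ a) (e₂ ^ b) := fun a b => hc.pow_pow a b
  have addE : ∀ a b a' b' : ZMod N, e₁ ^ a.val * e₂ ^ b.val * (e₁ ^ a'.val * e₂ ^ b'.val) =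
      e₁ ^ (a + a').val * e₂ ^ (b + b').val := by
    intro a b a' b'
    rw [pow_val_add h₁, pow_val_add h₂]
    calc _ = e₁ ^ a.val * (e₂ ^ b.val * e₁ ^ a'.val) * e₂ ^ b'.val := by group
      _ = e₁ ^ a.val * (e₁ ^ a'.val * e₂ ^ b.val) * e₂ ^ b'.val := by rw [(cE _ _).eq]
      _ = _ := by group
  have vE : ∀ a b : ZMod N, v * (e₁ ^ a.val * e₂ ^ b.val) = e₁ ^ (-a).val * e₂ ^ (-b).val * v := by
    intro a b
    have u₁ : v * e₁ ^ a.val = e₁⁻¹ ^ a.val * v := (SemiconjBy.pow_right (hv₁ : SemiconjBy v e₁ e₁⁻¹) _).eq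
    have u₂ : v * e₂ ^ b.val = e₂⁻¹ ^ b.val * v := (SemiconjBy.pow_right (hv₂ : SemiconjBy v e₂ e₂⁻¹) _).eq
    rw [pow_val_neg h₁, pow_val_neg h₂, ← inv_pow, ← inv_pow, ← mul_assoc, u₁, mul_assoc, u₂, mul_assoc]
  have wE : ∀ a b : ZMod N, w * (e₁ ^ a.val * e₂ ^ b.val) = e₁ ^ b.val * e₂ ^ a.val * w := by
    intro a b
    rw [← mul_assoc, (SemiconjBy.pow_right (hw₁ : SemiconjBy w e₁ e₂) _).eq, mul_assoc,
      (SemiconjBy.pow_right (hw₂ : SemiconjBy w e₂ e₁) _).eq, ← mul_assoc, (cE _ _).eq]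
  have TE : ∀ (k l : Bool) (a b : ZMod N), cond k v 1 * cond l w 1 * (e₁ ^ a.val * e₂ ^ b.val) =
      e₁ ^ (twist k l a b).val * e₂ ^ (twist k l b a).val * (cond k v 1 * cond l w 1) := by
    intro k l a b
    cases k <;> cases l <;> simp only [cond_true, cond_false, twist, one_mul, mul_one]
    · exact wE a b
    · exact vE a b
    · rw [mul_assoc v w, wE, ← mul_assoc, vE, mul_assoc]
  have hwv : w * v = v * w := hvw.eq.symm
  have TT : ∀ k l k' l' : Bool, cond k v 1 * cond l w 1 * (cond k' v 1 * cond l' w 1) =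
      cond (xor k k') v 1 * cond (xor l l') w 1 := by
    intro k l k' l'
    cases k <;> cases l <;> cases k' <;> cases l' <;>
      simp [hv, hw, hwv, mul_assoc] <;>
      simp [← mul_assoc, hv, hw, hwv] <;> simp [mul_assoc, hw]
  refine ⟨MonoidHom.mk' (fun x => e₁ ^ x.i.val * e₂ ^ x.j.val * (cond x.k v 1 * cond x.l w 1))
    (fun x y => ?_), fun _ => rfl⟩
  obtain ⟨a, b, k, l⟩ := x
  obtain ⟨a', b', k', l'⟩ := y
  simp only [El.mul_def]
  rw [← TT, ← addE]
  symm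
  calc e₁ ^ a.val * e₂ ^ b.val * (cond k v 1 * cond l w 1) *
        (e₁ ^ a'.val * e₂ ^ b'.val * (cond k' v 1 * cond l' w 1))
      = e₁ ^ a.val * e₂ ^ b.val * (cond k v 1 * cond l w 1 * (e₁ ^ a'.val * e₂ ^ b'.val)) *
        (cond k' v 1 * cond l' w 1) := by group
    _ = _ := by rw [TE]; group

/-- In a 2-group model, a homomorphism that is non-trivial at the centre is injective. -/
theorem injective_of_half {R : Type*} [CommRing R] [Finite R] {h q : R} (H : Halves h q)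
    (hR : IsPGroup 2 (El R)) (h11 : (1 : R) + 1 ≠ 0) (φ : El R →* G)
    (hz : φ ⟨h, h, false, false⟩ ≠ 1) : Function.Injective φ := by
  haveI : Fact (Nat.Prime 2) := ⟨Nat.prime_two⟩
  have h10 : (1 : R) ≠ 0 := fun e => h11 (by rw [e, add_zero])
  rw [← MonoidHom.ker_eq_bot_iff]
  by_contra hne
  have hK := PGroups.normal_inf_center_ne_bot hR φ.ker hne
  set K := φ.ker ⊓ Subgroup.center (El R)
  haveI : Nontrivial K := (Subgroup.nontrivial_iff_ne_bot _).2 hK
  obtain ⟨n, hn, hcard⟩ := (hR.to_subgroup K).nontrivial_iff_card.1 inferInstance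
  obtain ⟨⟨x, hxk, hxc⟩, hx⟩ := exists_prime_orderOf_dvd_card' (G := K) 2 (hcard ▸ dvd_pow_self 2 (by omega))
  rw [← Subgroup.orderOf_coe] at hx
  have hx2 : x * x = 1 := by
    have := pow_orderOf_eq_one x
    rwa [hx, pow_two] at this
  have hx1 : x ≠ 1 := fun e => by simp [e] at hx
  have cm := Subgroup.mem_center_iff.1 hxc
  rcases sq_cases H hx2 hx1 with rfl | rfl | rfl | ⟨ek, el⟩ | ⟨a, rfl⟩ | ⟨a, rfl⟩
  · exact hz (MonoidHom.mem_ker.1 hxk)
  · have := cm ⟨0, 0, false, true⟩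
    simp [El.mul_def, twist] at this
    exact H.h_ne (this.1 ▸ rfl : h = 0)
  · have := cm ⟨0, 0, false, true⟩
    simp [El.mul_def, twist] at this
    exact H.h_ne this.1
  · obtain ⟨a, b, k, l⟩ := x
    simp only at ek el
    subst ek el
    have := cm ⟨1, 0, false, false⟩
    simp [El.mul_def, twist] at this
    exact h11 (by linear_combination this)
  · have := cm ⟨1, 0, false, false⟩
    simp [El.mul_def, twist] at this
    exact h10 this
  · have := cm ⟨1, 0, false, false⟩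
    simp [El.mul_def, twist] at this
    exact h10 this

end Cfsg.Agent.Lib.G2Fusion23
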