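import Cfsg.Agent.Lib.G2Fusion23.Model

/-!
# Involutions and centralisers in the model (helper23)
-/

set_option autoImplicit false
set_option linter.style.haveILetI false

namespace Cfsg.Agent.Lib.G2Fusion23

variable {R : Type*} [CommRing R]

/-- `h = 2 * q` is the only element of additive order two. -/
structure Halves (h q : R) : Prop where
  two_q : q + q = h
  two_h : h + h = 0
  h_ne : h ≠ 0
  tor : ∀ x : R, x + x = 0 → x = 0 ∨ x = h

theorem Halves.neg_h {h q : R} (H : Halves h q) : -h = h := neg_eq_of_add_eq_zero_left H.two_h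

theorem twist_false (a b : R) : twist false false a b = a := rfl

theorem twist_k (a b : R) : twist true false a b = -a := rfl

theorem twist_l (a b : R) : twist false true a b = b := rfl

theorem twist_kl (a b : R) : twist true true a b = -b := rfl

theorem zed_central {h q : R} (H : Halves h q) (x : El R) :
    x * (⟨h, h, false, false⟩ : El R) = (⟨h, h, false, false⟩ : El R) * x := by
  obtain ⟨a, b, k, l⟩ := x
  cases k <;> cases l <;> simp [El.mul_def, twist, H.neg_h] <;> constructor <;> ring

theorem sq_cases {h q : R} (H : Halves h q) {x : El R} (hx : x * x = 1) (hx1 : x ≠ 1) :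
    x = ⟨h, h, false, false⟩ ∨ x = ⟨h, 0, false, false⟩ ∨ x = ⟨0, h, false, false⟩ ∨
      (x.k = true ∧ x.l = false) ∨ (∃ a, x = ⟨a, -a, false, true⟩) ∨ (∃ a, x = ⟨a, a, true, true⟩) := by
  obtain ⟨a, b, k, l⟩ := x
  cases k <;> cases l <;> simp [El.mul_def, El.one_def, twist] at hx
  · rcases H.tor a hx.1 with rfl | rfl <;> rcases H.tor b hx.2 with rfl | rfl
    · exact absurd El.one_def.symm hx1
    · exact Or.inr (Or.inr (Or.inl rfl))
    · exact Or.inr (Or.inl rfl)
    · exact Or.inl rfl
  · right; right; right; right; left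
    exact ⟨a, by rw [El.ext_iff]; exact ⟨rfl, eq_neg_of_add_eq_zero_right hx.1, rfl, rfl⟩⟩
  · right; right; right; left; exact ⟨rfl, rfl⟩
  · right; right; right; right; right
    exact ⟨a, by rw [El.ext_iff]; exact ⟨rfl, by linear_combination -hx.1, rfl, rfl⟩⟩

/-- `z` is a commutator of two elements centralising `y`. -/
def CommIn (z y : El R) : Prop :=
  ∃ a b : El R, a * y = y * a ∧ b * y = y * b ∧ a * b = z * (b * a)

theorem commIn_swap {h q : R} (H : Halves h q) (c : R) :
    CommIn (⟨h, h, false, false⟩ : El R) ⟨c, -c, false, true⟩ := by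
  refine ⟨⟨q, q, false, false⟩, ⟨c + c, 0, true, false⟩, ?_, ?_, ?_⟩
  · simp [El.mul_def, twist]; constructor <;> ring
  · simp [El.mul_def, twist]
  · simp [El.mul_def, twist]
    exact ⟨by linear_combination H.two_q, by linear_combination H.two_q⟩

theorem commIn_swapInv {h q : R} (H : Halves h q) (c : R) :
    CommIn (⟨h, h, false, false⟩ : El R) ⟨c, c, true, true⟩ := by
  refine ⟨⟨q, -q, false, false⟩, ⟨c + c, 0, true, false⟩, ?_, ?_, ?_⟩
  · simp [El.mul_def, twist]; constructor <;> ring
  · simp [El.mul_def, twist]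
  · simp [El.mul_def, twist]
    exact ⟨by linear_combination H.two_q, by linear_combination -H.two_q - H.two_h⟩

theorem commIn_even {h q : R} (H : Halves h q) {a b x : R} (hx : x + x = a - b) :
    CommIn (⟨h, h, false, false⟩ : El R) ⟨a, b, true, false⟩ := by
  refine ⟨⟨h, 0, false, false⟩, ⟨x, -x, false, true⟩, ?_, ?_, ?_⟩
  · simp [El.mul_def, twist, H.neg_h]; ring
  · simp [El.mul_def, twist]
    exact ⟨by linear_combination hx, by linear_combination -hx⟩
  · simp [El.mul_def, twist]
    linear_combination -H.two_h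

/-- In the odd case the centraliser of an inverting involution has no swap. -/
theorem cases_of_commute {h q : R} (H : Halves h q) {a b : R} (hodd : ∀ x : R, x + x ≠ a - b) {g : El R}
    (hg : g * (⟨a, b, true, false⟩ : El R) = (⟨a, b, true, false⟩ : El R) * g) :
    g = 1 ∨ g = ⟨h, h, false, false⟩ ∨ g = ⟨h, 0, false, false⟩ ∨ g = ⟨0, h, false, false⟩ ∨
      (g.k = true ∧ g.l = false ∧ (g.i = a ∨ g.i = a + h) ∧ (g.j = b ∨ g.j = b + h)) := by
  obtain ⟨c, d, k, l⟩ := g
  cases k <;> cases l <;> simp [El.mul_def, twist] at hg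
  · rcases H.tor c (by linear_combination hg.1) with rfl | rfl <;>
      rcases H.tor d (by linear_combination hg.2) with rfl | rfl
    · exact Or.inl El.one_def.symm
    · exact Or.inr (Or.inr (Or.inr (Or.inl rfl)))
    · exact Or.inr (Or.inr (Or.inl rfl))
    · exact Or.inr (Or.inl rfl)
  · exact absurd (by linear_combination hg.1) (hodd c)
  · right; right; right; right
    refine ⟨rfl, rfl, ?_, ?_⟩
    · rcases H.tor (c - a) (by linear_combination hg.1) with e | e
      · exact Or.inl (sub_eq_zero.1 e)
      · exact Or.inr (by rw [← e]; ring)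
    · rcases H.tor (d - b) (by linear_combination hg.2) with e | e
      · exact Or.inl (sub_eq_zero.1 e)
      · exact Or.inr (by rw [← e]; ring)
  · exact absurd (by linear_combination hg.1) (hodd (c - b))

/-- Conjugating an inverting involution by a translation. -/
theorem conj_shift (a b p p' : R) :
    (⟨p, p', false, false⟩ : El R) * ⟨a, b, true, false⟩ * (⟨p, p', false, false⟩ : El R)⁻¹ =
      ⟨a + (p + p), b + (p' + p'), true, false⟩ := by
  simp [El.mul_def, El.inv_def, twist]
  constructor <;> ring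

theorem conj_swap (c : R) :
    (⟨c, 0, false, false⟩ : El R) * ⟨0, 0, false, true⟩ * (⟨c, 0, false, false⟩ : El R)⁻¹ =
      ⟨c, -c, false, true⟩ := by
  simp [El.mul_def, El.inv_def, twist]

theorem conj_half (h : R) :
    (⟨0, 0, false, true⟩ : El R) * ⟨h, 0, false, false⟩ * (⟨0, 0, false, true⟩ : El R)⁻¹ =
      ⟨0, h, false, false⟩ := by
  simp [El.mul_def, El.inv_def, twist]

/-- The centraliser of an inverting involution is small. -/
theorem card_centralizer_le {h q : R} (H : Halves h q) [Finite R] (a b : R) :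
    Nat.card (Subgroup.centralizer ({(⟨a, b, true, false⟩ : El R)} : Set (El R))) ≤ 16 := by
  classical
  set C := Subgroup.centralizer ({(⟨a, b, true, false⟩ : El R)} : Set (El R))
  have hfib : ∀ kl : Bool × Bool, Nat.card {g : C // (g.1.k, g.1.l) = kl} ≤ 4 := by
    intro kl
    rcases isEmpty_or_nonempty {g : C // (g.1.k, g.1.l) = kl} with he | ⟨⟨g₀, hg₀⟩⟩
    · simp
    let ψ : {g : C // (g.1.k, g.1.l) = kl} → Bool × Bool := fun g =>
      (decide (g.1.1.i = g₀.1.i), decide (g.1.1.j = g₀.1.j))
    have hψ : Function.Injective ψ := by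
      rintro ⟨⟨⟨c, d, k, l⟩, hg⟩, hkl⟩ ⟨⟨⟨c', d', k', l'⟩, hg'⟩, hkl'⟩ he
      obtain ⟨⟨c₀, d₀, k₀, l₀⟩, hg0⟩ := g₀
      simp only [← hkl, Prod.mk.injEq] at hkl' hg₀
      obtain ⟨rfl, rfl⟩ := hkl'
      obtain ⟨rfl, rfl⟩ := hg₀
      rw [Subgroup.mem_centralizer_singleton_iff] at hg hg' hg0
      simp only [ψ, Prod.mk.injEq, decide_eq_decide] at he
      have key : ∀ u v w : R, u + u = w + w → v + v = w + w → (u = w ↔ v = w) → u = v := by
        intro u v w h1 h2 hiff
        rcases H.tor (u - w) (by linear_combination h1) with e1 | e1 <;>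
          rcases H.tor (v - w) (by linear_combination h2) with e2 | e2
        · linear_combination e1 - e2
        · rw [sub_eq_zero] at e1
          exact absurd ((hiff.1 e1)) (fun hv => H.h_ne (by rw [← e2, hv, sub_self]))
        · rw [sub_eq_zero] at e2
          exact absurd ((hiff.2 e2)) (fun hv => H.h_ne (by rw [← e1, hv, sub_self]))
        · linear_combination e1 - e2
      have hh : c + c = c₀ + c₀ ∧ c' + c' = c₀ + c₀ ∧ d + d = d₀ + d₀ ∧ d' + d' = d₀ + d₀ := by
        cases k₀ <;> cases l₀ <;> simp [El.mul_def, twist] at hg hg' hg0 <;>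
          refine ⟨?_, ?_, ?_, ?_⟩ <;>
          first
          | linear_combination hg.1 - hg0.1
          | linear_combination hg'.1 - hg0.1
          | linear_combination hg.2 - hg0.2
          | linear_combination hg'.2 - hg0.2
      obtain rfl := key c c' c₀ hh.1 hh.2.1 he.1
      obtain rfl := key d d' d₀ hh.2.2.1 hh.2.2.2 he.2
      rfl
    calc _ ≤ Nat.card (Bool × Bool) := Nat.card_le_card_of_injective ψ hψ
      _ = 4 := by simp
  rw [Nat.card_congr (Equiv.sigmaFiberEquiv (fun g : C => (g.1.k, g.1.l))).symm, Nat.card_sigma]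
  refine (Finset.sum_le_sum fun kl _ => hfib kl).trans ?_
  simp

end Cfsg.Agent.Lib.G2Fusion23
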