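import Cfsg.Agent.Lib.G2Fusion23.Fusion
import Cfsg.Agent.Lib.G2Fusion23.G2
import Cfsg.Agent.S0215

/-!
# Involution classes in simple groups with Sylow 2-subgroups of type G₂(q) (helper23)
-/

set_option autoImplicit false
set_option linter.style.haveILetI false

namespace Cfsg.Agent.Lib.G2Fusion23

open Subgroup

variable {G : Type*} [Group G] [Finite G] [IsSimpleGroup G]

theorem model_classes {k : ℕ} (S : Sylow 2 G) (φ : El (ZMod (2 ^ (k + 2))) →* G)
    (hinj : Function.Injective φ) (hrange : φ.range = (S : Subgroup G)) :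
    (∀ x y : G, orderOf x = 2 → orderOf y = 2 → IsConj x y) ∨
      (Nat.card ↥(S : Subgroup G) = 64 ∧ ∃ x y : G, orderOf x = 2 ∧ orderOf y = 2 ∧ ¬ IsConj x y ∧
        ∀ z : G, orderOf z = 2 → IsConj z x ∨ IsConj z y) := by
  haveI : Fact (Nat.Prime 2) := ⟨Nat.prime_two⟩
  set R := ZMod (2 ^ (k + 2))
  set h : R := ((2 : ℕ) ^ (k + 1) : R) with hh
  have hcardS : Nat.card ↥(S : Subgroup G) = 4 * (2 ^ (k + 2)) ^ 2 := by
    rw [← hrange, ← Nat.card_congr (MonoidHom.ofInjective hinj).toEquiv, El.card]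
  have hge : 16 ≤ (2 ^ (k + 2)) ^ 2 := by
    have h4 : 4 ≤ 2 ^ (k + 2) := by rw [pow_add]; have := Nat.one_le_two_pow (n := k); omega
    nlinarith
  have hbig : 8 < Nat.card (El R) := by rw [El.card]; omega
  have hGcard : 8 < Nat.card G :=
    hbig.trans_le (Nat.card_le_card_of_injective φ hinj)
  have hnt : ∀ g : G, g ≠ 1 → ¬ ∀ a : G, a * g = g * a := by
    intro g hg hc
    have hcen : center G = ⊤ := (center G).normal_of_characteristic.eq_bot_or_eq_top.resolve_left fun e =>
      hg (by simpa [e] using Subgroup.mem_center_iff.2 hc)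
    haveI : IsMulCommutative G := ⟨⟨fun a b => (Subgroup.mem_center_iff.1 (hcen ▸ mem_top b) a)⟩⟩
    letI : CommGroup G := { (inferInstance : Group G) with mul_comm := fun a b => (Subgroup.mem_center_iff.1 (hcen ▸ mem_top b) a) }
    have hp : (Nat.card G).Prime := IsSimpleGroup.prime_card
    have h2 : 2 ∣ Nat.card G := by
      refine dvd_trans ?_ (Subgroup.card_subgroup_dvd_card (S : Subgroup G))
      rw [hcardS]; exact Dvd.dvd.mul_right (by norm_num) _
    have := (Nat.prime_dvd_prime_iff_eq Nat.prime_two hp).1 h2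
    omega
  have hnoTwo : ∀ N : Subgroup G, N.index ≠ 2 := by
    intro N hN
    rcases (Subgroup.normal_of_index_eq_two hN).eq_bot_or_eq_top with e | e
    · rw [e, index_bot] at hN; omega
    · rw [e, index_top] at hN; omega
  set z := φ ⟨h, h, false, false⟩ with hz
  have hH := halves k
  have hzord : orderOf z = 2 := by
    refine orderOf_eq_prime ?_ fun e => hH.h_ne ?_
    · rw [hz, ← map_pow, pow_two, show (⟨h, h, false, false⟩ : El R) * ⟨h, h, false, false⟩ = 1 by
        rw [El.mul_def, El.one_def]; simp only [twist, cond_false, hh, hH.two_h, Bool.xor_self], map_one]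
    · exact congrArg El.i (hinj (e.trans (map_one φ).symm))
  have hfused : ∃ g : G, g * z * g⁻¹ ∈ (S : Subgroup G) ∧ g * z * g⁻¹ ≠ z := by
    by_contra hno
    obtain ⟨N, hNn, hNodd, hN⟩ := S0215.result S z hzord (by show z ∈ (S : Subgroup G); rw [← hrange]; exact ⟨_, rfl⟩)
      (fun g hg => by by_contra hne; exact hno ⟨g, hg, hne⟩)
    rcases hNn.eq_bot_or_eq_top with e | e
    · refine hnt z (fun e1 => by simp [e1] at hzord) fun a => ?_
      have h1 := hN a
      rw [e, mem_bot, mul_inv_eq_one, mul_inv_eq_iff_eq_mul] at h1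
      exact h1.symm
    · rw [e, card_top] at hNodd
      have h2 : 2 ∣ Nat.card G := hzord ▸ orderOf_dvd_natCard z
      exact Nat.not_even_iff_odd.2 hNodd (even_iff_two_dvd.2 h2)
  have D : Setup φ S h ((2 : ℕ) ^ k : R) := ⟨hH, hinj, hrange, hbig, hnoTwo, hfused⟩
  set w := φ ⟨0, 0, false, true⟩ with hw
  have hword : orderOf w = 2 := by
    refine orderOf_eq_prime ?_ fun e => ?_
    · rw [hw, ← map_pow, pow_two, show (⟨0, 0, false, true⟩ : El R) * ⟨0, 0, false, true⟩ = 1 by
        simp [El.mul_def, El.one_def, twist], map_one]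
    · exact Bool.false_ne_true (congrArg El.l (hinj (e.trans (map_one φ).symm))).symm
  by_cases hzw : IsConj z w
  · refine Or.inl fun x y hx hy => ?_
    have key : ∀ t : G, orderOf t = 2 → IsConj z t := fun t ht =>
      (D.two_classes ht).elim id hzw.trans
    exact (key x hx).symm.trans (key y hy)
  · refine Or.inr ⟨?_, z, w, hzord, hword, hzw, fun t ht => (D.two_classes ht).imp IsConj.symm IsConj.symm⟩
    have hlt : ¬ 8 ≤ Nat.card R := fun h8 => hzw (D.swap_conj h8)
    rw [Nat.card_zmod] at hlt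
    have hk : k = 0 := by
      by_contra hk
      have := Nat.pow_le_pow_right (show 1 ≤ 2 by norm_num) (show 3 ≤ k + 2 by omega)
      omega
    rw [hcardS, hk]
    norm_num

/-- The theorem. -/
theorem involution_classes {F : Type*} [Field F] [Fintype F] (hF : Odd (Fintype.card F)) (S : Sylow 2 G)
    (P : Sylow 2 ↥(Cfsg.Lie.chevG2.group F))
    (hS : Nonempty (↥(S : Subgroup G) ≃* ↥(P : Subgroup ↥(Cfsg.Lie.chevG2.group F)))) :
    (∀ x y : G, orderOf x = 2 → orderOf y = 2 → IsConj x y) ∨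
      (Nat.card ↥(S : Subgroup G) = 64 ∧ ∃ x y : G, orderOf x = 2 ∧ orderOf y = 2 ∧ ¬ IsConj x y ∧
        ∀ z : G, orderOf z = 2 → IsConj z x ∨ IsConj z y) := by
  haveI : Fact (Nat.Prime 2) := ⟨Nat.prime_two⟩
  obtain ⟨k, φ, P₀, hφ, hr⟩ := exists_sylow hF
  obtain ⟨e⟩ := hS
  let f : El (ZMod (2 ^ (k + 2))) ≃* ↥(S : Subgroup G) :=
    (MonoidHom.ofInjective hφ).trans ((MulEquiv.subgroupCongr hr).trans ((Sylow.equiv P₀ P).trans e.symm))
  refine model_classes S ((S : Subgroup G).subtype.comp f.toMonoidHom)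
    (Subtype.val_injective.comp f.injective) ?_
  rw [MonoidHom.range_comp, MonoidHom.range_eq_top.2 f.surjective, ← MonoidHom.range_eq_map,
    Subgroup.range_subtype]

end Cfsg.Agent.Lib.G2Fusion23
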