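import Mathlib

/-!
# The group (Z/n × Z/n) ⋊ (inversion × swap) (helper23)
-/

set_option autoImplicit false
set_option linter.style.haveILetI false

namespace Cfsg.Agent.Lib.G2Fusion23

variable {R : Type*} [CommRing R]

/-- Translations, inversion flag, swap flag. -/
@[ext]
structure El (R : Type*) where
  i : R
  j : R
  k : Bool
  l : Bool

/-- Action of the flags on a translation. -/
def twist (k l : Bool) (a b : R) : R := cond k (-(cond l b a)) (cond l b a)

/-- The product: `(a, f) (a', f') = (a + f a', f f')`. -/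
def El.mul (x y : El R) : El R :=
  ⟨x.i + twist x.k x.l y.i y.j, x.j + twist x.k x.l y.j y.i, xor x.k y.k, xor x.l y.l⟩

/-- The inverse. -/
def El.inv (x : El R) : El R :=
  ⟨-twist x.k x.l x.i x.j, -twist x.k x.l x.j x.i, x.k, x.l⟩

instance El.instMulEl : Mul (El R) := ⟨El.mul⟩
instance El.instOneEl : One (El R) := ⟨⟨0, 0, false, false⟩⟩
instance El.instInvEl : Inv (El R) := ⟨El.inv⟩

theorem El.mul_def (x y : El R) : x * y =
    ⟨x.i + twist x.k x.l y.i y.j, x.j + twist x.k x.l y.j y.i, xor x.k y.k, xor x.l y.l⟩ := rfl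

theorem El.one_def : (1 : El R) = ⟨0, 0, false, false⟩ := rfl

theorem El.inv_def (x : El R) : x⁻¹ =
    ⟨-twist x.k x.l x.i x.j, -twist x.k x.l x.j x.i, x.k, x.l⟩ := rfl

instance El.instGroupEl : Group (El R) :=
  Group.ofLeftAxioms
    (fun x y z => by
      obtain ⟨a, b, k, l⟩ := x
      obtain ⟨c, d, k', l'⟩ := y
      obtain ⟨e, f, k'', l''⟩ := z
      cases k <;> cases l <;> cases k' <;> cases l' <;> cases k'' <;> cases l'' <;>
        simp [El.mul_def, twist] <;> refine ⟨?_, ?_⟩ <;> ring)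
    (fun x => by
      obtain ⟨a, b, k, l⟩ := x
      simp [El.mul_def, El.one_def, twist])
    (fun x => by
      obtain ⟨a, b, k, l⟩ := x
      cases k <;> cases l <;> simp [El.mul_def, El.one_def, El.inv_def, twist])

/-- The coordinates as an equivalence. -/
def El.equivProd : El R ≃ R × R × Bool × Bool where
  toFun x := (x.i, x.j, x.k, x.l)
  invFun p := ⟨p.1, p.2.1, p.2.2.1, p.2.2.2⟩

instance El.instFiniteEl [Finite R] : Finite (El R) := Finite.of_equiv _ El.equivProd.symm

theorem El.card (n : ℕ) [NeZero n] : Nat.card (El (ZMod n)) = 4 * n ^ 2 := by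
  rw [Nat.card_congr El.equivProd]
  simp [Nat.card_prod]
  ring

/-- The inversion flag. -/
def kHom : El R →* Multiplicative (ZMod 2) where
  toFun x := Multiplicative.ofAdd (cond x.k 1 0)
  map_one' := rfl
  map_mul' x y := by
    obtain ⟨a, b, k, l⟩ := x
    obtain ⟨c, d, k', l'⟩ := y
    cases k <;> cases k' <;> simp [El.mul_def] <;> decide

/-- The swap flag. -/
def lHom : El R →* Multiplicative (ZMod 2) where
  toFun x := Multiplicative.ofAdd (cond x.l 1 0)
  map_one' := rfl
  map_mul' x y := by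
    obtain ⟨a, b, k, l⟩ := x
    obtain ⟨c, d, k', l'⟩ := y
    cases l <;> cases l' <;> simp [El.mul_def] <;> decide

theorem kHom_index : (kHom (R := R)).ker.index = 2 := by
  rw [Subgroup.index_ker, MonoidHom.range_eq_top.2 ?_, Subgroup.card_top]
  · simp
  intro y
  have : y = Multiplicative.ofAdd 0 ∨ y = Multiplicative.ofAdd 1 := by revert y; decide
  rcases this with rfl | rfl
  · exact ⟨⟨0, 0, false, false⟩, rfl⟩
  · exact ⟨⟨0, 0, true, false⟩, rfl⟩

theorem lHom_index : (lHom (R := R)).ker.index = 2 := by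
  rw [Subgroup.index_ker, MonoidHom.range_eq_top.2 ?_, Subgroup.card_top]
  · simp
  intro y
  have : y = Multiplicative.ofAdd 0 ∨ y = Multiplicative.ofAdd 1 := by revert y; decide
  rcases this with rfl | rfl
  · exact ⟨⟨0, 0, false, false⟩, rfl⟩
  · exact ⟨⟨0, 0, false, true⟩, rfl⟩

theorem mem_kHom {x : El R} : x ∈ (kHom (R := R)).ker ↔ x.k = false := by
  rw [MonoidHom.mem_ker]
  cases h : x.k <;> simp [kHom, h]

theorem mem_lHom {x : El R} : x ∈ (lHom (R := R)).ker ↔ x.l = false := by
  rw [MonoidHom.mem_ker]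
  cases h : x.l <;> simp [lHom, h]

end Cfsg.Agent.Lib.G2Fusion23
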