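import Cfsg.Agent.Lib.G2Fusion23.Hom
import Mathlib.LinearAlgebra.Matrix.SpecialLinearGroup

/-!
# The model inside two commuting SL₂ extended by a diagonal element (helper23)
-/

set_option autoImplicit false
set_option linter.style.haveILetI false

namespace Cfsg.Agent.Lib.G2Fusion23

open scoped MatrixGroups Matrix

variable {F : Type*} [Field F] {G : Type*} [Group G]

/-- diag(l, 1). -/
def dg (l : F) : Matrix (Fin 2) (Fin 2) F := !![l, 0; 0, 1]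

theorem dg_mul (a b : F) : dg a * dg b = dg (a * b) := by simp [dg]

theorem dg_one : dg (1 : F) = 1 := by simp [dg, Matrix.one_fin_two]

theorem dg_det (l : F) : (dg l).det = l := by simp [dg, Matrix.det_fin_two_of]

/-- One SL₂ factor of the element realising conjugation by `m`. -/
theorem exists_factor (ψ : SL(2, F) →* G) {hh : G} {l d c : F} (hl : l ≠ 0)
    (hconj : ∀ g g' : SL(2, F), (g : Matrix (Fin 2) (Fin 2) F) * dg l = dg l * g' → ψ g * hh = hh * ψ g')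
    {m : Matrix (Fin 2) (Fin 2) F} (hd : m.det = d) (hd0 : d ≠ 0) (hc : c * c * l = d)
    {a s : SL(2, F)} (ha : (a : Matrix (Fin 2) (Fin 2) F) = l⁻¹ • dg (l * l))
    (hs : (s : Matrix (Fin 2) (Fin 2) F) = d⁻¹ • (m * m)) :
    ∃ g g'' : SL(2, F), (∀ x x' : SL(2, F), (x' : Matrix (Fin 2) (Fin 2) F) * m = m * x →
        ψ x' * (hh * ψ g) = hh * ψ g * ψ x) ∧ ψ g * hh = hh * ψ g'' ∧ a * (g'' * g) = s := by
  have hc0 : c ≠ 0 := by rintro rfl; simp at hc; exact hd0 hc.symm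
  have e1 : dg l * dg l⁻¹ = (1 : Matrix (Fin 2) (Fin 2) F) := by rw [dg_mul, mul_inv_cancel₀ hl, dg_one]
  let g : SL(2, F) := ⟨c⁻¹ • (dg l⁻¹ * m), by
    rw [Matrix.det_smul, Matrix.det_mul, dg_det, hd, Fintype.card_fin, ← hc]
    field_simp⟩
  let g'' : SL(2, F) := ⟨dg l⁻¹ * (g : Matrix (Fin 2) (Fin 2) F) * dg l, by
    rw [Matrix.det_mul, Matrix.det_mul, dg_det, dg_det, g.2, mul_one, inv_mul_cancel₀ hl]⟩
  refine ⟨g, g'', fun x x' hx => ?_, hconj _ _ ?_, ?_⟩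
  · let y : SL(2, F) := ⟨dg l⁻¹ * (x' : Matrix (Fin 2) (Fin 2) F) * dg l, by
      rw [Matrix.det_mul, Matrix.det_mul, dg_det, dg_det, x'.2, mul_one, inv_mul_cancel₀ hl]⟩
    have h1 : ψ x' * hh = hh * ψ y := hconj _ _ (by
      show (x' : Matrix (Fin 2) (Fin 2) F) * dg l = dg l * (dg l⁻¹ * (x' : Matrix (Fin 2) (Fin 2) F) * dg l)
      rw [← mul_assoc, ← mul_assoc, e1, one_mul])
    have h2 : y * g = g * x := by
      refine Subtype.ext ?_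
      rw [Matrix.SpecialLinearGroup.coe_mul, Matrix.SpecialLinearGroup.coe_mul]
      show dg l⁻¹ * (x' : Matrix (Fin 2) (Fin 2) F) * dg l * c⁻¹ • (dg l⁻¹ * m) =
        c⁻¹ • (dg l⁻¹ * m) * (x : Matrix (Fin 2) (Fin 2) F)
      rw [Matrix.mul_smul, Matrix.smul_mul, mul_assoc (dg l⁻¹) m, ← hx, mul_assoc _ (dg l),
        ← mul_assoc (dg l), e1, one_mul, mul_assoc]
    rw [← mul_assoc, h1, mul_assoc, ← map_mul, h2, map_mul, mul_assoc]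
  · show (g : Matrix (Fin 2) (Fin 2) F) * dg l = dg l * (dg l⁻¹ * (g : Matrix (Fin 2) (Fin 2) F) * dg l)
    rw [← mul_assoc, ← mul_assoc, e1, one_mul]
  · refine Subtype.ext ?_
    rw [Matrix.SpecialLinearGroup.coe_mul, Matrix.SpecialLinearGroup.coe_mul, hs, ha]
    show l⁻¹ • dg (l * l) * (dg l⁻¹ * (c⁻¹ • (dg l⁻¹ * m)) * dg l * c⁻¹ • (dg l⁻¹ * m)) = d⁻¹ • (m * m)
    simp only [Matrix.mul_smul, Matrix.smul_mul, smul_smul]
    rw [← mul_assoc (dg (l * l)), ← mul_assoc (dg (l * l)), ← mul_assoc (dg (l * l)), ← dg_mul,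
      mul_assoc (dg l), e1, mul_one, ← mul_assoc (dg l), e1, one_mul, mul_assoc m, ← mul_assoc (dg l),
      e1, one_mul]
    congr 1
    rw [← hc]
    field_simp

/-- The symplectic form. -/
def J : SL(2, F) := ⟨!![0, 1; -1, 0], by simp [Matrix.det_fin_two_of]⟩

theorem J_sq : (J : SL(2, F)) * J = -1 := by
  refine Subtype.ext ?_
  rw [Matrix.SpecialLinearGroup.coe_mul, Matrix.SpecialLinearGroup.coe_neg, Matrix.SpecialLinearGroup.coe_one]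
  show !![(0 : F), 1; -1, 0] * !![(0 : F), 1; -1, 0] = -1
  simp [Matrix.one_fin_two]

/-- The model inside the extended pair. -/
theorem exists_model (ψ₁ ψ₂ : SL(2, F) →* G) (hcomm : ∀ a b, Commute (ψ₁ a) (ψ₂ b))
    (hzz : ψ₁ (-1) = ψ₂ (-1)) (hne : ψ₁ (-1) ≠ 1) {hh : G} {l₁ l₂ : F} (hl₁ : l₁ ≠ 0) (hl₂ : l₂ ≠ 0)
    (hconj₁ : ∀ g g' : SL(2, F), (g : Matrix (Fin 2) (Fin 2) F) * dg l₁ = dg l₁ * g' → ψ₁ g * hh = hh * ψ₁ g')
    (hconj₂ : ∀ g g' : SL(2, F), (g : Matrix (Fin 2) (Fin 2) F) * dg l₂ = dg l₂ * g' → ψ₂ g * hh = hh * ψ₂ g')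
    (hsq : ∀ a b : SL(2, F), (a : Matrix (Fin 2) (Fin 2) F) = l₁⁻¹ • dg (l₁ * l₁) →
      (b : Matrix (Fin 2) (Fin 2) F) = l₂⁻¹ • dg (l₂ * l₂) → hh * hh = ψ₁ a * ψ₂ b)
    {m : Matrix (Fin 2) (Fin 2) F} {d c₁ c₂ : F} (hd : m.det = d) (hd0 : d ≠ 0)
    (hc₁ : c₁ * c₁ * l₁ = d) (hc₂ : c₂ * c₂ * l₂ = d)
    (hm : m * (J : SL(2, F)).1 * m = d • (J : SL(2, F)).1) {k : ℕ}
    (hN : (d⁻¹ • (m * m)) ^ (2 ^ (k + 1)) = -1) :
    ∃ φ : El (ZMod (2 ^ (k + 2))) →* G, Function.Injective φ := by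
  obtain ⟨s, hs⟩ : ∃ s : SL(2, F), (s : Matrix (Fin 2) (Fin 2) F) = d⁻¹ • (m * m) :=
    ⟨⟨d⁻¹ • (m * m), by rw [Matrix.det_smul, Matrix.det_mul, hd, Fintype.card_fin]; field_simp⟩, rfl⟩
  obtain ⟨a, ha⟩ : ∃ a : SL(2, F), (a : Matrix (Fin 2) (Fin 2) F) = l₁⁻¹ • dg (l₁ * l₁) :=
    ⟨⟨_, by rw [Matrix.det_smul, dg_det, Fintype.card_fin]; field_simp⟩, rfl⟩
  obtain ⟨b, hb⟩ : ∃ b : SL(2, F), (b : Matrix (Fin 2) (Fin 2) F) = l₂⁻¹ • dg (l₂ * l₂) :=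
    ⟨⟨_, by rw [Matrix.det_smul, dg_det, Fintype.card_fin]; field_simp⟩, rfl⟩
  obtain ⟨g₁, g₁', f₁, k₁, p₁⟩ := exists_factor ψ₁ hl₁ hconj₁ hd hd0 hc₁ ha hs
  obtain ⟨g₂, g₂', f₂, k₂, p₂⟩ := exists_factor ψ₂ hl₂ hconj₂ hd hd0 hc₂ hb hs
  set z := ψ₁ (-1) with hz
  set t₁ := ψ₁ s with ht₁
  set t₂ := ψ₂ s with ht₂
  set u₁ := ψ₁ J with hu₁
  set u₂ := ψ₂ J with hu₂
  set e := hh * ψ₁ g₁ * ψ₂ g₂ with he
  set r := 2 ^ (k + 1) with hr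
  have cj₁ : ∀ x x' : SL(2, F), (x' : Matrix (Fin 2) (Fin 2) F) * m = m * x → ψ₁ x' * e = e * ψ₁ x := by
    intro x x' hx
    calc ψ₁ x' * e = ψ₁ x' * (hh * ψ₁ g₁) * ψ₂ g₂ := by rw [he]; group
      _ = hh * ψ₁ g₁ * (ψ₁ x * ψ₂ g₂) := by rw [f₁ x x' hx]; group
      _ = hh * ψ₁ g₁ * (ψ₂ g₂ * ψ₁ x) := by rw [(hcomm x g₂).eq]
      _ = _ := by rw [he]; group
  have cj₂ : ∀ x x' : SL(2, F), (x' : Matrix (Fin 2) (Fin 2) F) * m = m * x → ψ₂ x' * e = e * ψ₂ x := by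
    intro x x' hx
    have e' : e = hh * ψ₂ g₂ * ψ₁ g₁ := by rw [he, mul_assoc, (hcomm g₁ g₂).eq, mul_assoc]
    calc ψ₂ x' * e = ψ₂ x' * (hh * ψ₂ g₂) * ψ₁ g₁ := by rw [e']; group
      _ = hh * ψ₂ g₂ * (ψ₂ x * ψ₁ g₁) := by rw [f₂ x x' hx]; group
      _ = hh * ψ₂ g₂ * (ψ₁ g₁ * ψ₂ x) := by rw [(hcomm g₁ x).eq]
      _ = _ := by rw [e']; group
  have hee : e * e = t₁ * t₂ := by
    calc e * e = hh * (ψ₁ g₁ * (ψ₂ g₂ * hh)) * ψ₁ g₁ * ψ₂ g₂ := by rw [he]; group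
      _ = hh * (ψ₁ g₁ * hh) * (ψ₂ g₂' * ψ₁ g₁) * ψ₂ g₂ := by rw [k₂]; group
      _ = hh * hh * ψ₁ g₁' * (ψ₁ g₁ * ψ₂ g₂') * ψ₂ g₂ := by rw [k₁, (hcomm g₁ g₂').eq]; group
      _ = ψ₁ a * (ψ₂ b * (ψ₁ g₁' * ψ₁ g₁)) * (ψ₂ g₂' * ψ₂ g₂) := by rw [hsq a b ha hb]; group
      _ = ψ₁ a * ((ψ₁ g₁' * ψ₁ g₁) * ψ₂ b) * (ψ₂ g₂' * ψ₂ g₂) := by
        rw [← map_mul ψ₁, (hcomm _ b).eq]
      _ = ψ₁ (a * (g₁' * g₁)) * ψ₂ (b * (g₂' * g₂)) := by simp only [map_mul]; group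
      _ = _ := by rw [p₁, p₂]
  have hsm : (s : Matrix (Fin 2) (Fin 2) F) * m = m * s := by
    rw [hs, Matrix.smul_mul, Matrix.mul_smul, mul_assoc]
  have hsJs : s * J * s = J := by
    refine Subtype.ext ?_
    simp only [Matrix.SpecialLinearGroup.coe_mul, hs, Matrix.smul_mul, Matrix.mul_smul, smul_smul]
    rw [show m * m * (J : SL(2, F)).1 * (m * m) = m * (m * (J : SL(2, F)).1 * m) * m by
      simp [mul_assoc], hm, Matrix.mul_smul, Matrix.smul_mul, hm, smul_smul, smul_smul]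
    convert one_smul F (J : SL(2, F)).1
    field_simp
  have hJs : J * s * J⁻¹ = s⁻¹ := by
    rw [eq_inv_iff_mul_eq_one]
    have h1 : J * s = s⁻¹ * J := by
      calc J * s = s⁻¹ * (s * J * s) := by group
        _ = _ := by rw [hsJs]
    rw [h1]; group
  have hx' : ((J⁻¹ * s⁻¹ : SL(2, F)) : Matrix (Fin 2) (Fin 2) F) * m = m * (J⁻¹ : SL(2, F)) := by
    have hJi : (J⁻¹ : SL(2, F)) = -J := inv_eq_of_mul_eq_one_right (by rw [mul_neg, J_sq, neg_neg])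
    have h1 : m * (J : SL(2, F)).1 = ((s : Matrix (Fin 2) (Fin 2) F) * (J : SL(2, F)).1) * m := by
      rw [hs, Matrix.smul_mul, Matrix.smul_mul, mul_assoc m m, mul_assoc m, hm, Matrix.mul_smul,
        smul_smul, inv_mul_cancel₀ hd0, one_smul]
    have h2 : J⁻¹ * s⁻¹ = -(s * J) := by
      rw [← _root_.mul_inv_rev]
      refine inv_eq_of_mul_eq_one_right ?_
      calc s * J * -(s * J) = -(s * J * s * J) := by simp [mul_assoc]
        _ = 1 := by rw [hsJs, J_sq, neg_neg]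
    rw [h2, hJi, Matrix.SpecialLinearGroup.coe_neg, Matrix.SpecialLinearGroup.coe_neg,
      Matrix.SpecialLinearGroup.coe_mul, neg_mul, mul_neg, h1]
  have ct₁ : Commute t₁ e := cj₁ s s hsm
  have ct₂ : Commute t₂ e := cj₂ s s hsm
  have cu : ∀ (ψ : SL(2, F) →* G), (∀ x x' : SL(2, F),
      (x' : Matrix (Fin 2) (Fin 2) F) * m = m * x → ψ x' * e = e * ψ x) →
      ψ J * e * (ψ J)⁻¹ = (ψ s)⁻¹ * e := by
    intro ψ hψ
    rw [mul_assoc, ← map_inv, ← hψ _ _ hx', ← mul_assoc, ← map_mul, ← map_inv, ← mul_assoc J,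
      mul_inv_cancel, one_mul]
  have hu₁e : u₁ * e * u₁⁻¹ = t₁⁻¹ * e := cu ψ₁ cj₁
  have hu₂e : u₂ * e * u₂⁻¹ = t₂⁻¹ * e := cu ψ₂ cj₂
  have c12 : Commute u₁ u₂ := hcomm J J
  have cz₁ : u₁ * u₁ = z := by rw [hu₁, ← map_mul, J_sq]
  have cz₂ : u₂ * u₂ = z := by rw [hu₂, ← map_mul, J_sq, hzz]
  have hz2 : z * z = 1 := by
    rw [hz, ← map_mul, neg_mul_neg, one_mul, map_one]
  have hpow : ∀ ψ : SL(2, F) →* G, ψ s ^ r = ψ (-1) := fun ψ => by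
    rw [← map_pow]
    congr 1
    refine Subtype.ext ?_
    rw [Matrix.SpecialLinearGroup.coe_pow, hs, hN]
    simp
  set e' := u₂ * e * u₂⁻¹ with he'
  have hee' : Commute e e' := by
    rw [hu₂e]
    exact ct₂.symm.inv_right.mul_right (Commute.refl e)
  have hprod : e * e' = t₁ := by
    rw [hu₂e, ← mul_assoc, ct₂.symm.inv_right.eq, mul_assoc, hee,
      show t₁ * t₂ = t₂ * t₁ from (hcomm s s).eq, ← mul_assoc, inv_mul_cancel, one_mul]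
  have her : (e * e) ^ r = 1 := by
    rw [hee, (hcomm s s).mul_pow, hpow, hpow, ← hzz, hz2]
  have hN2 : 2 ^ (k + 2) = 2 * r := by rw [hr, ← pow_succ']
  have heN : e ^ (2 ^ (k + 2)) = 1 := by rw [hN2, pow_mul, pow_two, her]
  have heN' : e' ^ (2 ^ (k + 2)) = 1 := by rw [he', conj_pow, heN]; group
  set v := u₁ * u₂ with hv
  have hvv : v * v = 1 := by
    rw [hv, c12.symm.mul_mul_mul_comm, cz₁, cz₂, hz2]
  have hve : v * e = e⁻¹ * v := by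
    have h1 : e⁻¹ = t₂⁻¹ * t₁⁻¹ * e := by
      rw [← _root_.mul_inv_rev, ← hee]; group
    have h2 : v * e * v⁻¹ = t₂⁻¹ * t₁⁻¹ * e := by
      calc v * e * v⁻¹ = u₁ * (u₂ * e * u₂⁻¹) * u₁⁻¹ := by rw [hv]; group
        _ = u₁ * t₂⁻¹ * e * u₁⁻¹ := by rw [← he', hu₂e]; group
        _ = t₂⁻¹ * (u₁ * e * u₁⁻¹) := by
          rw [show u₁ * t₂⁻¹ = t₂⁻¹ * u₁ from (hcomm J s).inv_right.eq]; group
        _ = _ := by rw [hu₁e]; group
    rw [h1, ← h2]; group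
  have cv2 : Commute v u₂ := c12.mul_left (Commute.refl _)
  have hve' : v * e' = e'⁻¹ * v := by
    calc v * e' = u₂ * (v * e) * u₂⁻¹ := by
          rw [he', ← mul_assoc, ← mul_assoc, cv2.eq]; group
      _ = u₂ * (e⁻¹ * v) * u₂⁻¹ := by rw [hve]
      _ = u₂ * e⁻¹ * (v * u₂⁻¹) := by group
      _ = _ := by rw [he', show v * u₂⁻¹ = u₂⁻¹ * v from cv2.inv_right.eq]; group
  set w := u₂ * e ^ r with hw
  have hze : Commute z e := by rw [hzz, ← hpow ψ₂]; exact ct₂.pow_left _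
  have hu₂e' : u₂ * e' * u₂⁻¹ = e := by
    calc u₂ * e' * u₂⁻¹ = (u₂ * u₂) * e * (u₂ * u₂)⁻¹ := by rw [he']; group
      _ = z * e * z⁻¹ := by rw [cz₂]
      _ = e := by rw [hze.eq]; group
  have hwe : w * e = e' * w := by
    rw [hw, he', mul_assoc, ← pow_succ, pow_succ']; group
  have hwe' : w * e' = e * w := by
    rw [hw, mul_assoc, (hee'.pow_left r).eq, ← hu₂e']; group
  have hre : (e ^ r)⁻¹ = e ^ r := by
    rw [inv_eq_of_mul_eq_one_right]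
    rw [← pow_add, ← two_mul, ← hN2, heN]
  have hww : w * w = 1 := by
    calc w * w = (u₂ * e ^ r * u₂⁻¹) * (u₂ * u₂) * e ^ r := by rw [hw]; group
      _ = e' ^ r * (z * e ^ r) := by rw [cz₂, he', conj_pow, mul_assoc]
      _ = e' ^ r * e ^ r * z := by rw [(hze.pow_right r).eq, mul_assoc]
      _ = t₁ ^ r * z := by rw [← (hee'.pow_pow r r).eq, ← hee'.mul_pow, hprod]
      _ = 1 := by rw [hpow, hz2]
  have hvw : Commute v w := by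
    refine cv2.mul_right ?_
    show v * e ^ r = e ^ r * v
    rw [(SemiconjBy.pow_right (hve : SemiconjBy v e e⁻¹) r).eq, inv_pow, hre]
  obtain ⟨φ, hφ⟩ := exists_hom heN heN' hee' hvv hww hvw hve hve' hwe hwe'
  haveI : Fact (Nat.Prime 2) := ⟨Nat.prime_two⟩
  refine ⟨φ, injective_of_half (halves k) ?_ (two_ne k) φ ?_⟩
  · exact IsPGroup.of_card (n := 2 * (k + 2) + 2) (by rw [El.card]; ring)
  · rw [hφ]
    simp only [cond_false, mul_one, val_half]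
    rw [← hr, ← hee'.mul_pow, hprod, hpow]
    exact hne

end Cfsg.Agent.Lib.G2Fusion23
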